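import Cfsg.Agent.Lib.SW.JB

/-! # Identities in J₄, checked with matrices of degree 112 -/

set_option autoImplicit false
set_option maxRecDepth 100000

namespace Cfsg.Lib.SWJ

open Cfsg.Lib.Calc Cfsg.Lib.F2 Cfsg.Lib.Mathieu Cfsg.Lib.Big Cfsg.Lib.J4 Cfsg.Lib.J4T Subgroup Cfsg.Lib.Transfer
open Cfsg.Lib.Golay (pc)
open Cfsg.Lib.J4T.Md (rtV)

/-- the letters `x, y, t, y⁻¹` and the elements of `V` -/
noncomputable def tok (n : ℕ) : J := if n < 4 then [jx, jy, jt, jy⁻¹].getD n 1 else vv (n - 4)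
/-- the value of a word -/
noncomputable def ev (l : List ℕ) : J := (l.map tok).prod
/-- the matrix of a letter -/
noncomputable def tokC (n : ℕ) : ℕ := Bool.rec (vC (n - 4)) (F2.nth 0 [mX, J4.mY, mT, mZ] n) (blt n 4)
/-- the matrix of a word -/
noncomputable def evC (l : List ℕ) : ℕ :=
  List.rec (idM 112) (fun n _ ih => forceN ih fun x => forceN (tokC n) fun y => mmul 112 y x) l
/-- the permutation of a word -/
noncomputable def evT (l : List ℕ) : ℕ := pT (F2.nth id24 [xb, yb, id24, 154050573568022384407126345889613029]) l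
/-- the inverse word -/
def iv (l : List ℕ) : List ℕ := (l.map fun n => if n = 1 then 3 else if n = 3 then 1 else n).reverse
/-- the conjugate word -/
def cj (k a : List ℕ) : List ℕ := k ++ a ++ iv k

theorem R_tok {n : ℕ} (h : n < 2052) : Rm (tok n) (tokC n) := by
  by_cases k : n < 4
  · interval_cases n
    exacts [R_jx, R_jy, R_jt, lawJ.inv R_jy (by decide +kernel)]
  · rw [tok, if_neg k, tokC, show blt n 4 = false by simpa [← blt_iff] using k]
    exact R_vv (by omega)

theorem R_ev {l : List ℕ} (h : allL l (blt · 2052) = true) : Rm (ev l) (evC l) := by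
  rw [allL_iff] at h
  induction l with
  | nil => exact Rm.one
  | cons n l ih =>
    rw [show evC (n :: l) = mmul 112 (tokC n) (evC l) from
      (forceN_eq (evC l) fun x => forceN (tokC n) fun y => mmul 112 y x).trans (forceN_eq _ _)]
    exact (R_tok (blt_iff.1 (h n (by simp)))).mul (ih fun m hm => h m (by simp [hm]))

theorem x_sq : jx * jx = 1 := (R_jx.mul R_jx).eq Rm.one (by decide +kernel)
theorem x_inv : jx⁻¹ = jx := inv_eq_of_mul_eq_one_right x_sq
theorem ev_append (a b : List ℕ) : ev (a ++ b) = ev a * ev b := by simp [ev]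
theorem ev_iv (l : List ℕ) : ev (iv l) = (ev l)⁻¹ := by
  rw [ev, ev, List.prod_inv_reverse, iv, List.map_reverse, List.map_map, List.map_map]
  refine congrArg (fun l => (List.reverse l).prod) (List.map_congr_left fun n _ => ?_)
  by_cases k : n < 4
  · interval_cases n
    exacts [x_inv.symm, rfl, (inv_eq_of_mul_eq_one_right ((R_jt.mul R_jt).eq Rm.one (by decide +kernel))).symm, (inv_inv _).symm]
  · simp only [Function.comp, if_neg (show n ≠ 1 by omega), if_neg (show n ≠ 3 by omega), tok, if_neg k, vv_inv]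
theorem ev_cj (k a : List ℕ) : ev (cj k a) = ev k * ev a * (ev k)⁻¹ := by rw [cj, ev_append, ev_append, ev_iv]
theorem ev_x : ev [0] = jx := mul_one _
theorem ev_v (c : ℕ) : ev [c + 4] = vv c := (mul_one _).trans (if_neg (by omega))
theorem ev_cx (k : List ℕ) : ev (cj k [0]) = ev k * jx * (ev k)⁻¹ := by rw [ev_cj, ev_x]

theorem cj_of {g a b : List ℕ} (e : band (band (allL (g ++ a) (blt · 2052)) (allL (b ++ g) (blt · 2052)))
    (Nat.beq (evC (g ++ a)) (evC (b ++ g))) = true) : ev g * ev a * (ev g)⁻¹ = ev b := by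
  simp only [band_eq_true] at e
  rw [mul_inv_eq_iff_eq_mul, ← ev_append, ← ev_append]
  exact (R_ev e.1.1).eq (R_ev e.1.2) e.2

theorem ev_dec {l : List ℕ} (h : allL l (fun n => band (!Nat.beq n 2) (blt n 2052)) = true) :
    ∃ m, ∃ c < 2048, R m (evT l) ∧ ev l = vv c * Λ1 m := by
  rw [allL_iff] at h
  induction l with
  | nil => exact ⟨1, 0, by norm_num, R.one, by simp [ev, vv_zero]⟩
  | cons n l ih =>
    obtain ⟨m, c, hc, r, e⟩ := ih fun m hm => h m (by simp [hm])
    have h := h n (by simp)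
    rw [band_eq_true, blt_iff] at h
    have h1 := ne_of_not_beq h.1
    rw [show ev (n :: l) = tok n * ev l from rfl, e, show evT (n :: l) = mulT _ (evT l) from forceN_eq (evT l) _]
    have key : ∀ {g d}, R g d → ∃ m', ∃ c' < 2048, R m' (mulT d (evT l)) ∧ Λ1 g * (vv c * Λ1 m) = vv c' * Λ1 m' :=
      fun {g d} q => ⟨g * m, _, act_lt d c, q.mulT r, by rw [← Λact q hc, map_mul]; group⟩
    by_cases k : n < 4
    · interval_cases n
      · exact (Λ1_xb ▸ key R_xb :)
      · exact (Λ1_yb ▸ key R_yb :)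
      · exact absurd rfl h1
      · have q : R (Mathieu.mk 154050573568022384407126345889613029) _ := mk_rep (by decide +kernel)
        have := key q
        rwa [eq_inv_of_mul_eq_one_left (((q.mulT R_yb).eq_one_iff).2 (by decide +kernel)), map_inv, Λ1_yb] at this
    · refine ⟨1 * m, _, xlt (show n - 4 < 2048 by omega) hc, ?_, by rw [tok, if_neg k, vv_xor, one_mul, mul_assoc]⟩
      rw [F2.nth_eq_getD, List.getD_eq_default _ _ (by simpa using k)]
      exact R.one.mulT r

theorem ev_M {l : List ℕ} (h : allL l (fun n => band (!Nat.beq n 2) (blt n 2052)) = true) : ev l ∈ MM := by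
  obtain ⟨m, c, hc, -, e⟩ := ev_dec h
  exact e ▸ mul_mem (V_le (vv_mem hc)) (Λ_mem m)

theorem x_M : jx ∈ MM := Λ1_xb ▸ Λ_mem _
theorem y_M : jy ∈ MM := Λ1_yb ▸ Λ_mem _
theorem x_act {v : ℕ} (hv : v < 2048) : jx * vv v * jx⁻¹ = vv (act xb v) := Λ1_xb ▸ Λact R_xb hv
theorem xx {v : ℕ} (hv : v < 2048) : act xb (act xb v) = v := vv_inj (act_lt _ _) hv (by
  rw [← x_act (act_lt _ _), ← x_act hv, x_inv, ← mul_assoc, ← mul_assoc, x_sq, one_mul, mul_assoc, x_sq, mul_one])

/-- conjugates `vv 1075` to `x` -/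
def g0 : List ℕ := [1028, 1, 0, 3, 0, 1, 0, 3, 0, 1, 0, 3, 2, 68, 1, 0, 3, 0, 1, 2]
/-- conjugates `vv 1075` to `x` -/
noncomputable def gg : J := ev g0
theorem gg_x : gg * vv 1075 * gg⁻¹ = jx := ev_v 1075 ▸ ev_x ▸ cj_of (by decide +kernel)
theorem gg_z : gg * vv 1024 * gg⁻¹ = vv 434 := ev_v 1024 ▸ ev_v 434 ▸ cj_of (by decide +kernel)

theorem tri : ∃ k ∈ MM, ∃ l ∈ MM, gg * vv 1058 * gg⁻¹ = k * jx * k⁻¹ ∧ gg * vv 17 * gg⁻¹ = l * jx * l⁻¹ ∧
    k * vv 434 * k⁻¹ = vv 434 ∧ l * vv 434 * l⁻¹ = vv 434 :=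
  ⟨_, ev_M (l := [1, 0, 1, 0, 1, 0, 3, 0, 3, 0, 1, 0, 3, 0, 1, 0, 3, 0, 3, 0, 1, 0, 1, 0, 1, 0, 1, 0, 3]) (by decide +kernel), _,
    ev_M (l := [1, 0, 3, 0, 3, 0, 3, 0, 3, 0, 1, 0, 1, 0, 3, 0, 1, 0, 3, 0, 1, 0, 1, 0, 3, 0, 3, 0, 3]) (by decide +kernel),
    ev_v 1058 ▸ ev_cx _ ▸ cj_of (by decide +kernel), ev_v 17 ▸ ev_cx _ ▸ cj_of (by decide +kernel),
    ev_v 434 ▸ cj_of (by decide +kernel), ev_v 434 ▸ cj_of (by decide +kernel)⟩

theorem gg_f : ∃ k ∈ MM, gg * (k * jx * k⁻¹) * gg⁻¹ = vv 1871 ∧ k * jx * k⁻¹ * vv 1075 * (k * jx * k⁻¹)⁻¹ = vv 51 :=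
  ⟨_, ev_M (l := [69, 0, 3, 0, 1, 0, 3]) (by decide +kernel), ev_v 1871 ▸ ev_cx _ ▸ cj_of (by decide +kernel),
    ev_v 1075 ▸ ev_v 51 ▸ ev_cx _ ▸ cj_of (by decide +kernel)⟩

theorem odd33 : ∃ n ∈ MM, n * vv 1024 * n⁻¹ = vv 434 ∧ (n * gg⁻¹) ^ 33 = 1 := by
  refine ⟨_, ev_M (l := [1, 0, 3, 0, 1, 0]) (by decide +kernel), ev_v 1024 ▸ ev_v 434 ▸ cj_of (by decide +kernel), ?_⟩
  rw [gg, ← ev_iv, ← ev_append]
  exact (lawJ.pw (R_ev (by decide +kernel)) 33).eq Rm.one (by decide +kernel)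

/-- the involutions on which the section is known -/
def DD (a : J) : Prop := (∃ c < 2048, rtV c = 17 ∧ a = vv c) ∨ ∃ k ∈ MM, a = k * jx * k⁻¹

theorem DD.v (c : ℕ) (h : band (blt c 2048) (Nat.beq (rtV c) 17) = true) : DD (ev [c + 4]) :=
  .inl ⟨c, blt_iff.1 (band_eq_true.1 h).1, beq_iff.1 (band_eq_true.1 h).2, ev_v c⟩
theorem DD.x (k : List ℕ) (h : allL k (fun n => band (!Nat.beq n 2) (blt n 2052)) = true) : DD (ev (cj k [0])) :=
  .inr ⟨_, ev_M h, ev_cx k⟩

/-- generators -/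
def gen (i : ℕ) : List ℕ := [cj [] [0], cj [3, 0, 1, 0, 1, 0, 1, 0, 1, 0, 1, 0, 1] [0],
  cj [6, 0, 1, 0, 3, 0, 1, 0, 3, 0, 3, 0, 3, 0, 1, 0, 3] [0], [1875], cj g0 [1150]].getD i []

theorem gen_top {H : Subgroup J} (h : ∀ i < 5, ev (gen i) ∈ H) : H = ⊤ := by
  let U : Subgroup M24 := fsub {m | ∃ c < 2048, vv c * Λ1 m ∈ H} ⟨0, by norm_num, by simp [vv_zero]⟩ (by
    rintro m ⟨c, hc, p⟩ n ⟨d, hd, q⟩
    obtain ⟨e, r⟩ := exists_R m
    refine ⟨_, xlt hc (act_lt e d), ?_⟩
    convert mul_mem p q using 1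
    rw [vv_xor, ← Λact r hd, map_mul]; group)
  have k : 244823040 ≤ Nat.card U := le_trans (by decide +kernel) (le_card_gen (by norm_num) (fun i hi => by
      obtain ⟨m, c, hc, r, e⟩ := ev_dec (l := gen i) (by revert i; decide +kernel)
      exact ⟨m, ⟨c, hc, e ▸ h i (by omega)⟩, by clear e; convert r using 1; clear r; revert i; decide +kernel⟩) (by decide +kernel : genOK 24 5 [18563015515822114106942345669149783, 853351050205203894154783992925488210, 555740814892590786766854660501819659, 984147682747134386984610715000095168, 974408412653090051993991767020323459, 984202788893572079915017369999033696, 961439705958039519393891774703896160, 973112565839653703377402740142680096, 980709296160097956271835241874007072, 969280405891795021807047524419668000, 961079787467313937456055785353414688, 984559288045672395699075860841728032, 976448692869377735270425038196672544, 963582593757073591850928955785840672, 972606645568131968584696805283956768] [0, 0, 0, 512777,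 6381833, 462646484375199766, 3395539040740363285, 855006912138144997910, 492983316343647505, 9629780229588282998992714455070, 227299271111139552711395352, 6580074504458, 10617475311850535878124053, 12150077703, 4911425970441] 3 [(23, [0, 1, 2], 24), (0, [3, 4], 23), (1, [5, 6], 22), (2, [7, 8], 21), (3, [9, 10], 20), (4, [11, 12, 13], 16), (5, [14], 3)] = true))
  have hU : U = ⊤ := eq_top_of_le_card _ (card_M24.trans_le k)
  have h1 : ∀ c < 2048, rtV c = 17 → vv c ∈ H := fun c hc e => by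
    obtain ⟨m, f⟩ := exists_act (c := 1871) (by norm_num) hc (e.symm ▸ by decide +kernel)
    obtain ⟨d, -, p⟩ := hU.ge (mem_top m)
    have := mul_mem (mul_mem p (ev_v 1871 ▸ h 3 (by norm_num))) (inv_mem p)
    rwa [mul_inv_rev, show ∀ a b c : J, a * b * c * (b⁻¹ * a⁻¹) = a * (b * c * b⁻¹) * a⁻¹ from fun _ _ _ => by group, f, vv_conj] at this
  have h2 : ∀ m < 2 ^ 24, vv (lin m) ∈ H := bit_ind (by rw [lin_zero, vv_zero]; exact one_mem _)
    (fun a _ b _ p q => by rw [lin_xor, vv_xor]; exact mul_mem p q) fun i hi => by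
      rw [lin_pow i hi]
      by_cases e : i = 23
      · rw [e, show ll 23 = 0 by decide, vv_zero]; exact one_mem _
      · exact h1 _ (ll_lt i) (by simpa [show ll 23 = 0 by decide] using rt_duad i hi 23 (by norm_num) e)
  have h3 : ∀ c < 2048, vv c ∈ H := fun c hc => let ⟨m, a, _, e⟩ := exists_lin c hc; e ▸ h2 m a
  refine (max_M.le_iff.1 fun g hg => ?_).resolve_right fun e => ?_
  · obtain ⟨m, c, hc, rfl⟩ := Mdec hg
    obtain ⟨d, hd, p⟩ := hU.ge (mem_top m)
    exact mul_mem ((mul_mem_cancel_left (h3 d hd)).1 p) (h3 c hc)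
  · have := V_comm (conj_V (e.le (h 4 (by norm_num))) (vv_mem (c := 1) (by norm_num))) (vv_mem (c := 1) (by norm_num))
    rw [← ev_v, ← ev_cj, ← ev_append, ← ev_append] at this
    exact (R_ev (by decide +kernel)).ne (R_ev (by decide +kernel)) (by decide +kernel) this

theorem exists_gen : ∃ s : Set J, closure s = ⊤ ∧ ∀ a ∈ s, ∀ b ∈ s, ∃ g a' b', DD a' ∧ DD b' ∧ a = g * a' * g⁻¹ ∧ b = g * b' * g⁻¹ := by
  refine ⟨{a | ∃ i < 5, a = ev (gen i)}, gen_top fun i hi => subset_closure ⟨i, hi, rfl⟩, ?_⟩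
  have h1 : ∀ i < 4, DD (ev (gen i)) := fun i hi => by
    interval_cases i
    exacts [.x _ (by decide +kernel), .x _ (by decide +kernel), .x _ (by decide +kernel), .v 1871 (by decide +kernel)]
  have h2 : ∀ i < 5, ∃ g a' b', DD a' ∧ DD b' ∧ ev (gen 4) = g * a' * g⁻¹ ∧ ev (gen i) = g * b' * g⁻¹ := fun i hi => by
    interval_cases i
    exacts [⟨_, _, _, .v 1146 (by decide +kernel), .v 1075 (by decide +kernel), ev_cj _ _, (cj_of (by decide +kernel)).symm⟩,
      ⟨_, _, _, .x [] rfl, .x [0, 3, 0, 3, 0, 3, 0, 1, 0, 1, 0, 3, 0, 3, 0, 3] (by decide +kernel),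
        (cj_of (g := cj g0 [516, 3, 0, 1, 0, 3, 0, 1, 0, 3, 0]) (by decide +kernel)).symm, (cj_of (by decide +kernel)).symm⟩,
      ⟨_, _, _, .x [] rfl, .x [20, 0, 3, 0, 3, 0, 1, 0, 3, 0, 1, 0, 1] (by decide +kernel),
        (cj_of (g := cj g0 [260, 3, 0, 1, 0, 3, 0, 1, 0, 3, 0]) (by decide +kernel)).symm, (cj_of (by decide +kernel)).symm⟩,
      ⟨_, _, _, .v 1146 (by decide +kernel), .x [69, 0, 3, 0, 1, 0, 3] (by decide +kernel), ev_cj _ _,
        (cj_of (by decide +kernel)).symm⟩,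
      ⟨_, _, _, .v 1146 (by decide +kernel), .v 1146 (by decide +kernel), ev_cj _ _, ev_cj _ _⟩]
  rintro _ ⟨i, hi, rfl⟩ _ ⟨j, hj, rfl⟩
  by_cases a : i = 4
  · exact a ▸ h2 j hj
  by_cases b : j = 4
  · obtain ⟨g, a', b', p, q, r, s⟩ := h2 i hi
    exact ⟨g, b', a', q, p, s, b ▸ r⟩
  exact ⟨1, _, _, h1 i (by omega), h1 j (by omega), by simp, by simp⟩

/-- elements centralising `x` -/
noncomputable def LL : ℕ → ℕ := F2.nth 0 [984818244535754528103549039458486304, 968810939113080523077025353834087936, 191069584628631193345255892822209093, 919363657743909454056937583756396942, 348681600404481369862181469081213419, 876959442544445046873127852391808201, 253640414474588589185285080512251407, 236265436277699007780265017638857988, 339711981297936091674973763110583499, 835575113183282650670198462214253843, 791144965127688254550366976307049588, 963703701146955824255089416330760800]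

theorem LL_ok : ∀ i < 12, okM (LL i) = true ∧ mulT (LL i) xb = mulT xb (LL i) := by decide +kernel
theorem LL_comm {i : ℕ} (hi : i < 12) : Λ1 (Mathieu.mk (LL i)) * jx = jx * Λ1 (Mathieu.mk (LL i)) := by
  have r := mk_rep (LL_ok i hi).1
  have q := R_xb.mulT r
  rw [← (LL_ok i hi).2] at q
  rw [← Λ1_xb, ← map_mul, ← map_mul, (r.mulT R_xb).eq q]

theorem add_app {f : ℕ → ℕ} (hx : ∀ c < 2048, ∀ d < 2048, f (c ^^^ d) = f c ^^^ f d) {U W : ℕ}
    (h : ∀ i < 11, f (Calc.get 11 U i) = Calc.get 11 W i) : ∀ c < 2 ^ 11, f (app 11 U c) = app 11 W c :=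
  bit_ind (by simpa [app_zero] using hx 0 (by norm_num) 0 (by norm_num))
    (fun a _ b _ p q => by rw [app_xor, app_xor, hx _ (app_lt 11 _ _) _ (app_lt 11 _ _), p, q]) fun i hi => by
      rw [app_two_pow hi, app_two_pow hi, h i hi]

/-- the images of a vector -/
noncomputable def UU (d : ℕ) : ℕ := pack 11 (fun i => act (LL i) d) 11

theorem endo_chk : (allBig 2048 fun c => Nat.beq (app 11 (UU 1842) (app 11 0xf1ae3b0d0d996cb098d3b4996f0d31 c)) c) = true ∧
    app 11 (UU 1842) 278 = act (LL 11) 1842 ∧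
    (forceB (NM (LL 1)) fun A => forceB (NM (LL 2)) fun B => forceB (NM (LL 4)) fun C => forceB (NM (LL 8)) fun D =>
      forceB (NM (LL 11)) fun E => allBig 2048 fun d => bor (!Nat.beq (app 11 E d)
        (Nat.xor (Nat.xor (app 11 A d) (app 11 B d)) (Nat.xor (app 11 C d) (app 11 D d))))
        (anyLt 2 fun i => anyLt 2 fun j => Nat.beq d (Nat.xor (i * 1842) (j * 346)))) = true ∧
    ∀ i < 2, ∀ j < 2, ∀ k < 11, act (LL k) (i * 1842 ^^^ j * 346) = i * act (LL k) 1842 ^^^ j * act xb (act (LL k) 1842) := by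
  decide +kernel

theorem endo {f : ℕ → ℕ} (hx : ∀ c < 2048, ∀ d < 2048, f (c ^^^ d) = f c ^^^ f d) (hl : ∀ c < 2048, f c < 2048)
    (h : ∀ m c, R m c → Λ1 m * jx = jx * Λ1 m → ∀ v < 2048, f (act c v) = act c (f v)) :
    ∃ i < 2, ∃ j < 2, ∀ v < 2048, f v = i * v ^^^ j * act xb v := by
  obtain ⟨k1, k2, k3, k4⟩ := endo_chk
  have g : ∀ d, ∀ i < 11, Calc.get 11 (UU d) i = act (LL i) d := fun d i hi => get_pack (w := 11) (fun _ _ => act_lt _ _) hi
  have h0 := fun i hi => h _ _ (mk_rep (LL_ok i hi).1) (LL_comm hi) 1842 (by norm_num)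
  have h1 := add_app hx (U := UU 1842) (W := UU (f 1842)) fun i hi => by rw [g _ i hi, g _ i hi, h0 i (by omega)]
  have h2 := h1 278 (by norm_num)
  rw [k2, h0 11 (by norm_num), show 278 = 2 ^ 1 ^^^ 2 ^ 2 ^^^ (2 ^ 4 ^^^ 2 ^ 8) by decide] at h2
  simp only [app_xor, app_two_pow (d := 11) (show 1 < 11 by norm_num), app_two_pow (d := 11) (show 2 < 11 by norm_num),
    app_two_pow (d := 11) (show 4 < 11 by norm_num), app_two_pow (d := 11) (show 8 < 11 by norm_num)] at h2
  rw [g _ _ (by norm_num), g _ _ (by norm_num), g _ _ (by norm_num), g _ _ (by norm_num)] at h2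
  simp only [forceB_eq, allBig_iff, bor_eq_true, anyLt_iff, beq_iff] at k1 k3
  obtain ⟨i, hi, j, hj, e⟩ := (k3 _ (hl 1842 (by norm_num))).resolve_left fun e => ne_of_not_beq e h2
  refine ⟨i, hi, j, hj, fun v hv => ?_⟩
  have := add_app (f := fun v => i * v ^^^ j * act xb v) (U := UU 1842) (W := UU (f 1842)) (fun c _ d _ => by
    interval_cases i <;> interval_cases j <;> simp [act_xor, Nat.xor_assoc, Nat.xor_left_comm])
    (fun k hk => by rw [g _ k hk, g _ k hk, e]; exact (k4 i hi j hj k hk).symm) _ (app_lt 11 0xf1ae3b0d0d996cb098d3b4996f0d31 v)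
  rw [← h1 _ (app_lt 11 _ _), k1 v hv] at this
  exact this.symm

theorem fix434 {d : ℕ} (hd : d < 2048) (h : ∀ m c, R m c → Λ1 m * jx = jx * Λ1 m → act c d = d) : d = 0 ∨ d = 434 := by
  have k : (forceB (NM (LL 1)) fun A => forceB (NM (LL 2)) fun B => allBig 2048 fun d =>
    bor (bor (Nat.beq d 0) (Nat.beq d 434)) (bor (!Nat.beq (app 11 A d) d) (!Nat.beq (app 11 B d) d))) = true := by decide +kernel
  simp only [forceB_eq, allBig_iff, bor_eq_true, beq_iff] at k
  have h0 := fun i hi => h _ _ (mk_rep (LL_ok i hi).1) (LL_comm hi)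
  exact (k d hd).resolve_right fun e => e.elim (ne_of_not_beq · (h0 1 (by norm_num))) (ne_of_not_beq · (h0 2 (by norm_num)))

theorem nofix {d : ℕ} (hd : d < 2048) (h0 : act xb d = d) (h : ∀ m c, R m c → act xb (act c d) = act c d) : d = 0 := by
  have k : (forceB (NM xb) fun A => forceB (NM yb) fun B => forceB (NM 154050573568022384407126345889613029) fun C => allBig 2048 fun d =>
    bor (bor (Nat.beq d 0) (!Nat.beq (app 11 A d) d)) (bor (forceB (app 11 B d) fun e => !Nat.beq (app 11 A e) e)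
      (forceB (app 11 C d) fun e => !Nat.beq (app 11 A e) e))) = true := by decide +kernel
  simp only [forceB_eq, allBig_iff, bor_eq_true, beq_iff] at k
  rcases k d hd with (e | e) | e | e
  exacts [e, absurd h0 (ne_of_not_beq e), absurd (h _ _ R_yb) (ne_of_not_beq e),
    absurd (h _ _ (mk_rep (by decide +kernel))) (ne_of_not_beq e)]

theorem four : ∃ k ∈ MM, ∃ l ∈ MM, jx * (k * jx * k⁻¹) * (l * jx * l⁻¹) = 1 ∧
    (∀ v < 2048, k * jx * k⁻¹ * vv v * (k * jx * k⁻¹)⁻¹ = vv (act 254514265552263664963814799671055663 v)) ∧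
    ∀ v < 2048, l * jx * l⁻¹ * vv v * (l * jx * l⁻¹)⁻¹ = vv (act 629620828784035150575128823762298534 v) := by
  have key : ∀ {k c}, okM k = true → okM c = true → mulT k xb = mulT c k →
      Λ1 (Mathieu.mk k) * jx * (Λ1 (Mathieu.mk k))⁻¹ = Λ1 (Mathieu.mk c) := fun p q e => by
    have r := (mk_rep q).mulT (mk_rep p)
    rw [← e] at r
    rw [mul_inv_eq_iff_eq_mul, ← Λ1_xb, ← map_mul, ← map_mul, ((mk_rep p).mulT R_xb).eq r]
  have a := key (k := 228000987835770217865697499730759022) (c := 254514265552263664963814799671055663) (by decide +kernel)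
    (by decide +kernel) (by decide +kernel)
  have b := key (k := 640668298579538530835350267280764567) (c := 629620828784035150575128823762298534) (by decide +kernel)
    (by decide +kernel) (by decide +kernel)
  refine ⟨_, Λ_mem _, _, Λ_mem _, ?_, fun v hv => a ▸ Λact (mk_rep (by decide +kernel)) hv,
    fun v hv => b ▸ Λact (mk_rep (by decide +kernel)) hv⟩
  rw [a, b, ← Λ1_xb, ← map_mul, ← map_mul, (((R_xb.mulT (mk_rep (by decide +kernel))).mulT
    (mk_rep (by decide +kernel))).eq_one_iff).2 (by decide +kernel), map_one]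

theorem top_of {N : Subgroup M24} (hN : N.Normal) {m : M24} (hm : m ∈ N) (h : m ≠ 1) : N = ⊤ :=
  have := simple_M24
  hN.eq_bot_or_eq_top.resolve_left fun e => h (mem_bot.1 (e.le hm))

theorem xb_ne : Mathieu.mk xb ≠ 1 := mt R_xb.eq_one_iff.1 (by decide +kernel)
theorem sq_ne : (Mathieu.mk xb * (Mathieu.mk yb * Mathieu.mk xb * (Mathieu.mk yb)⁻¹)) ^ 2 ≠ 1 := by
  have q : R (Mathieu.mk 154050573568022384407126345889613029) _ := mk_rep (by decide +kernel)
  rw [← eq_inv_of_mul_eq_one_left (((q.mulT R_yb).eq_one_iff).2 (by decide +kernel))]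
  exact mt ((R_xb.mulT ((R_yb.mulT R_xb).mulT q)).pow_eq_one_iff 2).1 (by decide +kernel)

end Cfsg.Lib.SWJ
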