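import Cfsg.Agent.Lib.SW.Th
import Cfsg.Agent.Lib.SW.JC

/-! # The group `2²²` and the lifts of the involutions of class `2B` -/

set_option autoImplicit false
set_option maxRecDepth 100000

namespace Cfsg.Lib.SWJ

open Cfsg.Lib.Calc Cfsg.Lib.F2 Cfsg.Lib.Mathieu Cfsg.Lib.J4T Subgroup Cfsg.Lib.Transfer
open Cfsg.Lib.J4T.Md (rtV)

variable {G : Type*} [Group G]

/-- the class `2B` -/
def Du (a : J) : Prop := ∃ g, ∃ c < 2048, rtV c = 17 ∧ a = g * vv c * g⁻¹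

theorem Du.cj {a : J} (h : Du a) (g : J) : Du (g * a * g⁻¹) :=
  let ⟨k, c, hc, p, e⟩ := h; ⟨g * k, c, hc, p, by rw [e]; group⟩
theorem Du.x : Du jx := ⟨gg, 1075, by norm_num, by decide +kernel, gg_x.symm⟩
theorem Du.sq {a : J} (h : Du a) : a * a = 1 := by
  obtain ⟨k, c, -, -, rfl⟩ := h
  rw [conj_mul, vv_sq, mul_one, mul_inv_cancel]
theorem DD.du {a : J} (h : DD a) : Du a := by
  obtain ⟨c, hc, p, rfl⟩ | ⟨k, -, rfl⟩ := h
  exacts [⟨1, c, hc, p, by simp⟩, Du.x.cj k]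

theorem exists_cj {g : J} (hg : g ∈ MM) {c : ℕ} (hc : c < 2048) : ∃ d < 2048, g * vv c * g⁻¹ = vv d :=
  mem_V.1 (conj_V hg (vv_mem hc))
theorem exists_cj' {g : J} (hg : g ∈ MM) {c : ℕ} (hc : c < 2048) : ∃ d < 2048, g * vv d * g⁻¹ = vv c :=
  let ⟨d, hd, e⟩ := exists_cj (inv_mem hg) hc; ⟨d, hd, by rw [← e]; group⟩

namespace Cs

variable (S : Cs G) (θ : ℕ → G)

/-- the second factor -/
def η (c : ℕ) : G := S.t * θ c * S.t
/-- the elements of `2²²` -/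
def xy (c d : ℕ) : G := θ c * S.η θ d
open Classical in
/-- the lift of an involution of class `2B` -/
noncomputable def Θ (a : J) : G := if h : ∃ g, g * vv 17 * g⁻¹ = a then S.ψ h.choose * θ 17 * (S.ψ h.choose)⁻¹ else 1

theorem tt' (g : G) : g * S.t * S.t = g := by rw [mul_assoc, S.t2, mul_one]
theorem tfix {g : G} (h : S.t * g * S.t = g) : g * S.t = S.t * g := by rw [← h, S.tt', h]
theorem t_t (g : G) : S.t * (S.t * g * S.t) * S.t = g := by rw [mul_assoc S.t g, S.tt, S.tt']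
theorem t_mul_inv (g : G) : (S.t * g * S.t)⁻¹ = S.t * g⁻¹ * S.t := by simp [S.t_inv, mul_assoc]
theorem t_mul (x y : G) : S.t * (x * y) * S.t = S.t * x * S.t * (S.t * y * S.t) := by simp [mul_assoc, S.tt]
theorem t_cj (g : J) (y : G) : S.ψ g * (S.t * y * S.t) * (S.ψ g)⁻¹ = S.t * (S.ψ g * y * (S.ψ g)⁻¹) * S.t := by
  simp only [← map_inv, ← mul_assoc, S.comm]
  simp only [mul_assoc, S.comm]

theorem big [Finite G] (h : ∀ g, g * g = 1 → g * S.t = S.t * g → ∃ a, g = S.ψ a ∨ g = S.ψ a * S.t) {Y : Subgroup G}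
    (h1 : ∀ x ∈ Y, x * x = 1) (hc : 2 ^ 13 ≤ Nat.card Y) {y : G} (hy : y ∈ Y) : ¬IsConj S.t y := fun e => by
  obtain ⟨g, rfl⟩ := isConj_iff.1 e
  have k : ∀ x ∈ g⁻¹ ⋆ Y, x * x = 1 := fun x hx => by simpa [mul_assoc] using congrArg (fun z => g⁻¹ * z * g) (h1 _ (mem_conj.1 hx))
  obtain ⟨a, e⟩ := S.ea_half k (fun x hx => h x (k x hx) (by
    simpa [mul_assoc] using congrArg (fun z => g⁻¹ * z * g)
      (comm_of_sq (h1 _ (mem_conj.1 hx)) (h1 _ hy) (h1 _ (mul_mem (mem_conj.1 hx) hy))))) (by rw [card_conj]; omega)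
  have := card_le_of_le e
  rw [card_conj, card_conj, S.card_B] at this
  omega

end Cs

namespace Th

variable {S : Cs G} {θ : ℕ → G} (H : Th S θ) {c d c' d' : ℕ} {g a : J}
include H

theorem zero : θ 0 = 1 := by simpa using H.xor 0 (by norm_num) 0 (by norm_num)
theorem sq (hc : c < 2048) : θ c * θ c = 1 := by rw [← H.xor c hc c hc, Nat.xor_self, H.zero]
theorem comm (hc : c < 2048) (hd : d < 2048) : θ c * θ d = θ d * θ c := by rw [← H.xor c hc d hd, ← H.xor d hd c hc, Nat.xor_comm]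
theorem η_eq (hc : c < 2048) : S.η θ c = S.v c * θ c := by rw [Cs.η, (H.ov c hc).tm, mul_assoc, S.tt']
theorem η_zero : S.η θ 0 = 1 := by rw [Cs.η, H.zero, mul_one, S.t2]
theorem η_xor (hc : c < 2048) (hd : d < 2048) : S.η θ (c ^^^ d) = S.η θ c * S.η θ d := by rw [Cs.η, H.xor c hc d hd, S.t_mul]; rfl
theorem θη (hc : c < 2048) (hd : d < 2048) : θ c * S.η θ d = S.η θ d * θ c := by
  rw [H.η_eq hd, ← mul_assoc, (H.ov c hc).c d hd, mul_assoc, H.comm hc hd, mul_assoc]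
theorem cj (hg : g ∈ MM) (hc : c < 2048) (hd : d < 2048) (e : g * vv c * g⁻¹ = vv d) : S.ψ g * θ c * (S.ψ g)⁻¹ = θ d := by
  obtain ⟨m, k, u, r, hu, rfl, f⟩ := Mact hg
  rw [vv_inj hd (act_lt k c) (e.symm.trans (f c hc)), ← H.equi m k r c hc, map_mul, mul_assoc (S.ψ _), ← Cs.v, ← (H.ov c hc).c u hu]
  group
theorem η_cj (hg : g ∈ MM) (hc : c < 2048) (hd : d < 2048) (e : g * vv c * g⁻¹ = vv d) :
    S.ψ g * S.η θ c * (S.ψ g)⁻¹ = S.η θ d := by rw [Cs.η, S.t_cj, H.cj hg hc hd e]; rfl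
theorem xy_cj (hg : g ∈ MM) (hc : c < 2048) (hd : d < 2048) (hc' : c' < 2048) (hd' : d' < 2048) (e : g * vv c * g⁻¹ = vv c')
    (f : g * vv d * g⁻¹ = vv d') : S.ψ g * S.xy θ c d * (S.ψ g)⁻¹ = S.xy θ c' d' := by
  rw [Cs.xy, ← conj_mul, H.cj hg hc hc' e, H.η_cj hg hd hd' f]; rfl
theorem xy_mul (hc : c < 2048) (hd : d < 2048) (hc' : c' < 2048) (hd' : d' < 2048) :
    S.xy θ c d * S.xy θ c' d' = S.xy θ (c ^^^ c') (d ^^^ d') := by
  rw [Cs.xy, Cs.xy, Cs.xy, H.xor c hc c' hc', H.η_xor hd hd', mul_assoc, ← mul_assoc (S.η θ d), ← H.θη hc' hd]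
  simp only [mul_assoc]
theorem xy_l : S.xy θ c 0 = θ c := by rw [Cs.xy, H.η_zero, mul_one]
theorem xy_r : S.xy θ 0 c = S.η θ c := by rw [Cs.xy, H.zero, one_mul]
theorem xy_eq (hc : c < 2048) (hd : d < 2048) : S.xy θ c d = θ (c ^^^ d) * S.v d := by
  rw [Cs.xy, H.η_eq hd, H.xor c hc d hd, mul_assoc, (H.ov d hd).c d hd]
theorem xy_diag (hc : c < 2048) : S.xy θ c c = S.v c := by rw [H.xy_eq hc hc, Nat.xor_self, H.zero, one_mul]
theorem xy_inj (hc : c < 2048) (hd : d < 2048) (hc' : c' < 2048) (hd' : d' < 2048) (e : S.xy θ c d = S.xy θ c' d') :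
    c = c' ∧ d = d' := by
  rw [H.xy_eq hc hd, H.xy_eq hc' hd'] at e
  have k := ((H.ov _ (xlt hc hd)).mul0 (S.ov_v d)).uniq (e ▸ (H.ov _ (xlt hc' hd')).mul0 (S.ov_v d'))
  rw [k, mul_right_inj] at e
  obtain rfl := S.v_inj hd hd' e
  exact ⟨Nat.xor_left_inj.1 k, rfl⟩
theorem t_xy (hc : c < 2048) (hd : d < 2048) : S.t * S.xy θ c d * S.t = S.xy θ d c := by
  rw [Cs.xy, S.t_mul, Cs.xy, H.θη hd hc, Cs.η, Cs.η, mul_assoc S.t (θ d), S.tt, S.tt']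

theorem Θ_eq (g : J) (hc : c < 2048) (h : rtV c = 17) : S.Θ θ (g * vv c * g⁻¹) = S.ψ g * θ c * (S.ψ g)⁻¹ := by
  obtain ⟨m, e⟩ := exists_rt hc
  rw [h] at e
  have k : ∃ k, k * vv 17 * k⁻¹ = g * vv c * g⁻¹ := ⟨g * Λ1 m, by rw [← e]; group⟩
  have l := k.choose_spec
  rw [Cs.Θ, dif_pos k]
  generalize k.choose = n at l
  have p : g⁻¹ * n * vv 17 * (g⁻¹ * n)⁻¹ = vv c := by rw [cj_eq l.symm]; group
  rw [← H.cj (g := g⁻¹ * n) ((mul_mem_cancel_left (inv_mem (Λ_mem m))).1 (cenD (c := 17) (by norm_num) (by decide +kernel) (by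
    rw [← mul_inv_eq_iff_eq_mul, mul_inv_rev, mul_assoc (Λ1 m)⁻¹, mul_assoc (Λ1 m)⁻¹, ← mul_assoc (_ * vv 17), p, ← e]
    group))) (by norm_num) hc p, map_mul, map_inv]
  group
theorem Θ_v (hc : c < 2048) (h : rtV c = 17) : S.Θ θ (vv c) = θ c := by simpa using H.Θ_eq 1 hc h
theorem Θ_cj (h : Du a) (g : J) : S.Θ θ (g * a * g⁻¹) = S.ψ g * S.Θ θ a * (S.ψ g)⁻¹ := by
  obtain ⟨k, c, hc, p, rfl⟩ := h
  rw [H.Θ_eq k hc p, show g * (k * vv c * k⁻¹) * g⁻¹ = g * k * vv c * (g * k)⁻¹ by group, H.Θ_eq _ hc p, map_mul]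
  group
theorem Θ_sq (h : Du a) : S.Θ θ a * S.Θ θ a = 1 := by
  obtain ⟨k, c, hc, p, rfl⟩ := h
  rw [H.Θ_eq k hc p, conj_mul, H.sq hc, mul_one, mul_inv_cancel]
theorem Θ_inv (h : Du a) : (S.Θ θ a)⁻¹ = S.Θ θ a := inv_eq_of_mul_eq_one_right (H.Θ_sq h)
theorem Θ_t (h : Du a) : S.t * S.Θ θ a * S.t = S.ψ a * S.Θ θ a := by
  obtain ⟨k, c, hc, p, rfl⟩ := h
  rw [H.Θ_eq k hc p, ← S.t_cj, ← Cs.η, H.η_eq hc, ← conj_mul, map_mul, map_mul, map_inv, Cs.v]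
theorem Θ_comm (h : Du a) (e : g * a = a * g) : S.ψ g * S.Θ θ a = S.Θ θ a * S.ψ g := by
  rw [← mul_inv_eq_iff_eq_mul, ← H.Θ_cj h, e, mul_inv_cancel_right]
theorem Θ_xy (h : Du a) (ha : a ∈ MM) {p q p' q' : ℕ} (hp : p < 2048) (hq : q < 2048) (hp' : p' < 2048)
    (hq' : q' < 2048) (e : S.Θ θ a * θ c * (S.Θ θ a)⁻¹ = S.xy θ p q) (f : a * vv p * a⁻¹ = vv p') (k : a * vv q * a⁻¹ = vv q') :
    S.Θ θ a * S.η θ c * (S.Θ θ a)⁻¹ = S.xy θ q' p' := by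
  have l : S.Θ θ a * S.t = S.ψ a * S.t * S.Θ θ a := by
    rw [← S.comm, mul_assoc, ← H.Θ_t h, mul_assoc S.t, S.tt]
  rw [← H.xy_cj ha hq hp hq' hp' k f, ← H.t_xy hp hq, ← e, Cs.η, ← mul_assoc, ← mul_assoc, l, mul_assoc _ S.t, ← S.t_inv,
    ← mul_inv_rev, S.t_inv, l]
  simp only [mul_inv_rev, S.t_inv, mul_assoc]

variable [Finite G]

/-- the group `2²²` -/
def X : Subgroup G := fsub {g | ∃ c < 2048, ∃ d < 2048, g = S.xy θ c d} ⟨0, by norm_num, 0, by norm_num, (H.xy_l.trans H.zero).symm⟩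
  (by rintro _ ⟨c, hc, d, hd, rfl⟩ _ ⟨c', hc', d', hd', rfl⟩; exact ⟨_, xlt hc hc', _, xlt hd hd', H.xy_mul hc hd hc' hd'⟩)

theorem xy_X (hc : c < 2048) (hd : d < 2048) : S.xy θ c d ∈ H.X := ⟨c, hc, d, hd, rfl⟩
theorem θ_X (hc : c < 2048) : θ c ∈ H.X := H.xy_l ▸ H.xy_X hc (by norm_num)
theorem η_X (hc : c < 2048) : S.η θ c ∈ H.X := H.xy_r ▸ H.xy_X (by norm_num) hc
theorem v_X (hc : c < 2048) : S.v c ∈ H.X := H.xy_diag hc ▸ H.xy_X hc hc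
theorem X_sq {y : G} (hy : y ∈ H.X) : y * y = 1 := by
  obtain ⟨c, hc, d, hd, rfl⟩ := hy
  rw [H.xy_mul hc hd hc hd, Nat.xor_self, Nat.xor_self, H.xy_l, H.zero]
theorem X_comm {y z : G} (hy : y ∈ H.X) (hz : z ∈ H.X) : y * z = z * y := comm_of_sq (H.X_sq hy) (H.X_sq hz) (H.X_sq (mul_mem hy hz))
theorem t_X {y : G} (hy : y ∈ H.X) : S.t * y * S.t ∈ H.X := by
  obtain ⟨c, hc, d, hd, rfl⟩ := hy
  exact H.t_xy hc hd ▸ H.xy_X hd hc
theorem t_nX : S.t ∈ normalizer (H.X : Set G) := mem_normalizer_fintype fun _ h => S.t_inv.symm ▸ H.t_X h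
theorem M_X (hg : g ∈ MM) : S.ψ g ∈ normalizer (H.X : Set G) := mem_normalizer_fintype (by
  rintro _ ⟨c, hc, d, hd, rfl⟩
  obtain ⟨c', hc', e⟩ := exists_cj hg hc
  obtain ⟨d', hd', f⟩ := exists_cj hg hd
  exact H.xy_cj hg hc hd hc' hd' e f ▸ H.xy_X hc' hd')
theorem card_X : 2 ^ 13 ≤ Nat.card H.X := by
  have := Set.ncard_le_ncard_of_injOn (s := ↑(Finset.range 2048 ×ˢ Finset.range 2048)) (t := H.X) (fun p : ℕ × ℕ => S.xy θ p.1 p.2)
    (fun p hp => by simp at hp; exact H.xy_X hp.1 hp.2) fun p hp q hq e => by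
      simp at hp hq; exact Prod.ext_iff.2 (H.xy_inj hp.1 hp.2 hq.1 hq.2 e)
  rw [Set.ncard_coe_finset, Finset.card_product, Finset.card_range] at this
  exact le_trans (by norm_num) this

end Th

namespace Th

variable [Finite G] {S : Ct G} {θ : ℕ → G} (H : Th S.toCs θ)
include H

theorem X_nc {y g : G} (hy : y ∈ g ⋆ H.X) {a : J} : y ≠ S.ψ a * S.t := fun e => by
  have k : ∀ x ∈ g ⋆ H.X, x * x = 1 := by rintro _ ⟨x, hx, rfl⟩; rw [← map_mul, H.X_sq hx, map_one]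
  obtain ⟨l, c, hc, f⟩ := toV (a := a) (S.inj (by rw [← S.mul_t, ← e, k y hy, map_one]))
  refine S.big (fun g _ => S.cen g) k (by rw [card_conj]; exact H.card_X) hy ((S.conj_vt hc).trans (isConj_iff.2 ⟨(S.ψ l)⁻¹, ?_⟩))
  rw [e, ← map_inv, ← conj_mul, S.cj_t, Cs.v, ← f]
  simp [mul_assoc]

theorem nX : S.Θ θ jx ∈ normalizer (H.X : Set G) := by
  have b1 := H.Θ_t Du.x
  have b2 := H.Θ_comm Du.x rfl
  have b3 := H.Θ_comm (g := vv 289) Du.x (mul_inv_eq_iff_eq_mul.1 ((x_act (by norm_num)).trans (congrArg vv (by decide +kernel)))).symm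
  generalize S.Θ θ jx = β at *
  have b4 : S.t * β = β * (S.ψ jx * S.t) := by rw [← mul_assoc, ← b2, ← b1, S.tt']
  have k1 : ∀ x ∈ β ⋆ H.X, x * x = 1 := by rintro _ ⟨x, hx, rfl⟩; rw [← map_mul, H.X_sq hx, map_one]
  have k2 : ∀ {x y}, x ∈ β ⋆ H.X → y ∈ β ⋆ H.X → x * y = y * x := fun p q => comm_of_sq (k1 _ p) (k1 _ q) (k1 _ (mul_mem p q))
  have k3 : ∀ y, S.t * (β * y * β⁻¹) * S.t = β * (S.ψ jx * (S.t * y * S.t) * (S.ψ jx)⁻¹) * β⁻¹ := fun y => by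
    rw [← mul_assoc, ← mul_assoc, b4, mul_assoc _ β⁻¹, ← S.t_inv, ← mul_inv_rev, S.t_inv, b4]
    simp only [mul_inv_rev, S.t_inv, mul_assoc]
  have k4 : ∀ y ∈ β ⋆ H.X, S.t * y * S.t = y → ∃ a, y = S.ψ a := fun y hy e =>
    let ⟨a, f⟩ := S.cen y (S.tfix e); ⟨a, f.resolve_right (H.X_nc hy)⟩
  have h1 : (β ⋆ H.X).comap S.ψ = VV := by
    refine ea_eq (ea_of fun a ha => S.inj (by rw [map_mul, k1 _ ha, map_one])) ?_ fun a ha => cenD (c := 289) (by norm_num)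
      (by decide +kernel) (S.inj (by
        rw [map_mul, map_mul]
        exact k2 ha (mem_conj.2 (by rw [mul_assoc, b3, inv_mul_cancel_left]; exact H.v_X (by norm_num)))))
    have := Set.ncard_le_ncard_of_injOn (s := Finset.range 2048) (t := S.ψ '' (β ⋆ H.X).comap S.ψ)
      (fun c => β * S.xy θ c (act xb c) * β⁻¹) (fun c hc => by
        have hc : c < 2048 := by simpa using hc
        have m := (conj_mem_conj (g := β)).2 (H.xy_X hc (act_lt xb c))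
        obtain ⟨a, e⟩ := k4 _ m (by
          rw [k3, H.t_xy hc (act_lt _ _), H.xy_cj x_M (act_lt _ _) hc hc (act_lt _ _) ((x_act (act_lt _ _)).trans (by rw [xx hc]))
            (x_act hc)])
        exact ⟨a, show S.ψ a ∈ _ from e ▸ m, e.symm⟩) fun c hc d hd e =>
        (H.xy_inj (by simpa using hc) (act_lt _ _) (by simpa using hd) (act_lt _ _) (by simpa using e)).1
    rwa [Set.ncard_coe_finset, Finset.card_range, Set.ncard_image_of_injective _ S.inj] at this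
  refine mem_normalizer_of_conj_le fun y hy => ?_
  have m : y * (S.t * y * S.t) ∈ β ⋆ H.X := mul_mem hy (by
    obtain ⟨x, hx, rfl⟩ := hy
    exact (k3 x).symm ▸ conj_mem_conj.2 (nrm_of (H.M_X x_M) (H.t_X hx)))
  obtain ⟨a, e⟩ := k4 _ m (by rw [S.t_mul, k2 hy ((mul_mem_cancel_left hy).1 m)]; simp only [mul_assoc, S.tt, S.t2, mul_one])
  obtain ⟨u, hu, rfl⟩ := mem_V.1 (h1.le (show S.ψ a ∈ _ from e ▸ m))
  have o : S.Ov y u := ⟨hu, fun c hc => k2 hy (h1.ge (vv_mem hc)), by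
    rw [Cs.v, ← e, mul_assoc y, S.tt', mul_assoc, mul_assoc, k1 y hy, mul_one]⟩
  by_cases z : u = 0
  · obtain ⟨c, hc, rfl | f⟩ := Ct.ov_zero (z ▸ o)
    exacts [H.v_X hc, absurd f (H.X_nc hy)]
  · obtain ⟨c, hc, rfl⟩ := Ct.same (H.ov u hu) o z ((H.sq hu).trans (k1 y hy).symm)
    exact mul_mem (H.θ_X hu) (H.v_X hc)

end Th

end Cfsg.Lib.SWJ
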