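import Cfsg.Agent.Lib.SW.B1

/-! # The lifts generate two commuting subgroups -/

set_option autoImplicit false
set_option maxRecDepth 100000

namespace Cfsg.Lib.SWJ

open Cfsg.Lib.Calc Cfsg.Lib.F2 Cfsg.Lib.Mathieu Cfsg.Lib.J4T Subgroup Cfsg.Lib.Transfer
open Cfsg.Lib.J4T.Md (rtV)

variable {G : Type*} [Group G]

/-- the action of a lift on `2²²` -/
def Cs.Fm (S : Cs G) (θ : ℕ → G) (i j : ℕ) (a : J) : Prop := ∀ c < 2048, ∀ d < 2048, a * vv c * a⁻¹ = vv d →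
  S.Θ θ a * θ c * (S.Θ θ a)⁻¹ = S.xy θ ((1 - i) * c ^^^ i * d) (j * c ^^^ j * d)

theorem lc_lt {i j c d : ℕ} (hi : i < 2) (hj : j < 2) (hc : c < 2048) (hd : d < 2048) : i * c ^^^ j * d < 2048 := by
  interval_cases i <;> interval_cases j <;> simp [xlt, *]

theorem lc_cj {i j c d c' d' : ℕ} (hi : i < 2) (hj : j < 2) {g : J} (e : g * vv c * g⁻¹ = vv c') (f : g * vv d * g⁻¹ = vv d') :
    g * vv (i * c ^^^ j * d) * g⁻¹ = vv (i * c' ^^^ j * d') := by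
  rw [vv_xor, vv_xor, ← conj_mul]
  interval_cases i <;> interval_cases j <;> simp [vv_zero, ← e, ← f]

namespace Th

variable {S : Cs G} {θ : ℕ → G} (H : Th S θ) {i j : ℕ} {a k : J}
include H

theorem Fm_cj (hi : i < 2) (hj : j < 2) (h : S.Fm θ i j jx) (hk : k ∈ MM) : S.Fm θ i j (k * jx * k⁻¹) := fun c hc d hd e => by
  obtain ⟨c', hc', p⟩ := exists_cj' hk hc
  obtain ⟨d', hd', q⟩ := exists_cj' hk hd
  rw [H.Θ_cj Du.x, ← H.cj hk hc' hc p, conj_inv, conj_mul, conj_mul, h c' hc' d' hd' (by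
    rw [← p, ← q, conj_inv, conj_mul, conj_mul] at e; simpa using e)]
  exact H.xy_cj hk (lc_lt (by omega) hi hc' hd') (lc_lt hj hj hc' hd') (lc_lt (by omega) hi hc hd) (lc_lt hj hj hc hd)
    (lc_cj (by omega) hi p q) (lc_cj hj hj p q)

theorem Fm_xy (hi : i < 2) (hj : j < 2) (h : S.Fm θ i j a) (hu : Du a) (ha : a ∈ MM) {n : ℕ}
    (e : ∀ v < 2048, a * vv v * a⁻¹ = vv (act n v)) {c d : ℕ} (hc : c < 2048) (hd : d < 2048) :
    S.Θ θ a * S.xy θ c d * (S.Θ θ a)⁻¹ = S.xy θ (((1 - i) * c ^^^ i * act n c) ^^^ act n (j * d ^^^ j * act n d))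
      ((j * c ^^^ j * act n c) ^^^ act n ((1 - i) * d ^^^ i * act n d)) := by
  have p := fun c (hc : c < 2048) => lc_lt (show 1 - i < 2 by omega) hi hc (act_lt n c)
  have q := fun c (hc : c < 2048) => lc_lt hj hj hc (act_lt n c)
  rw [Cs.xy, ← conj_mul, h c hc _ (act_lt _ _) (e c hc), H.Θ_xy hu ha (p d hd) (q d hd) (act_lt _ _) (act_lt _ _)
    (h d hd _ (act_lt _ _) (e d hd)) (e _ (p d hd)) (e _ (q d hd)), H.xy_mul (p c hc) (q c hc) (act_lt _ _) (act_lt _ _)]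

end Th

namespace Th

variable [Finite G] {S : Ct G} {θ : ℕ → G} (H : Th S.toCs θ)
include H

theorem exists_Fm : ∃ i < 2, ∃ j < 2, S.Fm θ i j jx := by
  have h : ∀ c < 2048, ∃ p q, p < 2048 ∧ q < 2048 ∧ S.Θ θ jx * θ c * (S.Θ θ jx)⁻¹ = S.xy θ p q := fun c hc =>
    let ⟨p, hp, q, hq, e⟩ := nrm_of H.nX (H.θ_X hc); ⟨p, q, hp, hq, e⟩
  choose! P Q hP hQ h using h
  have h1 := fun c hc d hd => H.xy_inj (hP _ (xlt hc hd)) (hQ _ (xlt hc hd)) (xlt (hP c hc) (hP d hd)) (xlt (hQ c hc) (hQ d hd)) (by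
    rw [← h _ (xlt hc hd), ← H.xy_mul (hP c hc) (hQ c hc) (hP d hd) (hQ d hd), ← h c hc, ← h d hd, conj_mul, H.xor c hc d hd])
  have h2 := fun m c (r : R m c) (e : Λ1 m * jx = jx * Λ1 m) v hv => H.xy_inj (hP _ (act_lt c v)) (hQ _ (act_lt c v))
    (act_lt c (P v)) (act_lt c (Q v)) (by
      rw [← h _ (act_lt c v), ← H.xy_cj (Λ_mem m) (hP v hv) (hQ v hv) (act_lt _ _) (act_lt _ _) (Λact r (hP v hv)) (Λact r (hQ v hv)),
        ← h v hv, ← H.equi m c r v hv, ← mul_assoc, ← mul_assoc, ← H.Θ_comm Du.x e, mul_assoc _ _⁻¹, ← mul_inv_rev,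
        ← H.Θ_comm Du.x e]
      group)
  obtain ⟨i, hi, i', hi', p⟩ := endo (fun c hc d hd => (h1 c hc d hd).1) hP fun m c r e v hv => (h2 m c r e v hv).1
  obtain ⟨j, hj, j', hj', q⟩ := endo (fun c hc d hd => (h1 c hc d hd).2) hQ fun m c r e v hv => (h2 m c r e v hv).2
  have v : 1842 < 2048 := by norm_num
  have h3 : S.Θ θ jx * S.xy θ (P 1842) (Q 1842) * (S.Θ θ jx)⁻¹ = S.xy θ 1842 0 := by
    rw [← h _ v, H.xy_l, ← mul_assoc, ← mul_assoc, H.Θ_sq Du.x, H.Θ_inv Du.x, mul_assoc, H.Θ_sq Du.x, one_mul, mul_one]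
  have a := hP _ (hP _ v)
  have b := hQ _ (hP _ v)
  rw [Cs.xy, ← conj_mul, h _ (hP _ v), H.Θ_xy Du.x x_M (hP _ (hQ _ v)) (hQ _ (hQ _ v)) (act_lt _ _) (act_lt _ _) (h _ (hQ _ v))
    (x_act (hP _ (hQ _ v))) (x_act (hQ _ (hQ _ v))), H.xy_mul a b (act_lt _ _) (act_lt _ _)] at h3
  have h4 := (H.xy_inj (xlt a (act_lt _ _)) (xlt b (act_lt _ _)) v (by norm_num) h3).1
  rw [p _ (hP _ v), q _ (hQ _ v), p _ v, q _ v] at h4
  obtain ⟨rfl, rfl⟩ : i = 1 - i' ∧ j = j' := by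
    clear p q
    interval_cases i <;> interval_cases i' <;> interval_cases j <;> interval_cases j' <;> revert h4 <;> decide +kernel
  refine ⟨i', hi', j, hj, fun c hc d hd e => ?_⟩
  rw [h c hc, p c hc, q c hc, vv_inj hd (act_lt _ _) (e.symm.trans (x_act hc))]

omit [Finite G] in
theorem not_Fm1 {i : ℕ} (hi : i < 2) : ¬S.Fm θ i 1 jx := fun h => by
  obtain ⟨k, hk, l, hl, e, p, q⟩ := four
  have a := Du.x.cj k
  have b := Du.x.cj l
  have m := fun k (hk : k ∈ MM) => mul_mem (mul_mem hk x_M) (inv_mem hk)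
  have e1 : jx * (k * jx * k⁻¹) = l * jx * l⁻¹ := by rw [eq_inv_of_mul_eq_one_left e, inv_eq_of_mul_eq_one_right b.sq]
  have e2 := comm_of_sq x_sq a.sq (e1 ▸ b.sq)
  have h1 : S.t * (S.Θ θ jx * (S.Θ θ (k * jx * k⁻¹) * S.Θ θ (l * jx * l⁻¹))) * S.t =
      S.Θ θ jx * (S.Θ θ (k * jx * k⁻¹) * S.Θ θ (l * jx * l⁻¹)) := by
    rw [S.t_mul, S.t_mul, H.Θ_t Du.x, H.Θ_t a, H.Θ_t b]
    generalize k * jx * k⁻¹ = x at *
    generalize l * jx * l⁻¹ = y at *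
    have c1 := H.Θ_comm Du.x (g := x * y) (by rw [← e1, mul_assoc, mul_assoc, ← e2, ← mul_assoc x jx, ← e2, mul_assoc])
    rw [mul_assoc (S.ψ x), ← mul_assoc _ (S.ψ y), ← H.Θ_comm a (g := y) (by rw [← e1, mul_assoc, ← mul_assoc x, ← e2, mul_assoc]),
      mul_assoc (S.ψ y), ← mul_assoc (S.ψ x), ← map_mul, mul_assoc, ← mul_assoc (S.Θ θ jx), ← c1, mul_assoc (S.ψ _), ← mul_assoc (S.ψ _),
      ← map_mul, ← mul_assoc jx, e, map_one, one_mul]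
  have h2 : ∀ x y z w : G, x * (y * z) * w * (x * (y * z))⁻¹ = x * (y * (z * w * z⁻¹) * y⁻¹) * x⁻¹ := fun _ _ _ _ => by group
  have v : 524 < 2048 := by norm_num
  have t : 1 < 2 := one_lt_two
  have w := fun n c d (hc : c < 2048) => xlt (lc_lt (show 1 - i < 2 by omega) hi hc (act_lt n c)) (act_lt n d)
  have w' := fun n c d (hc : c < 2048) => xlt (lc_lt t t hc (act_lt n c)) (act_lt n d)
  have h3 := h2 (S.Θ θ jx) (S.Θ θ (k * jx * k⁻¹)) (S.Θ θ (l * jx * l⁻¹)) (S.xy θ 524 524)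
  rw [H.Fm_xy hi t (H.Fm_cj hi t h hl) b (m l hl) q v v, H.Fm_xy hi t (H.Fm_cj hi t h hk) a (m k hk) p (w _ _ _ v) (w' _ _ _ v),
    H.Fm_xy hi t h Du.x x_M (fun _ => x_act) (w _ _ _ (w _ _ _ v)) (w' _ _ _ (w _ _ _ v)), H.xy_diag v] at h3
  replace h3 := h3.trans (show _ = S.xy θ 219 219 by congr 1 <;> interval_cases i <;> decide +kernel)
  rw [H.xy_diag (by norm_num)] at h3
  obtain ⟨g, f⟩ := S.cen _ (S.tfix h1)
  refine absurd (rt_eq v (by norm_num : 219 < 2048) (isConj_iff.2 ⟨g, S.inj ?_⟩)) (by decide +kernel)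
  rw [map_mul, map_mul, map_inv, ← Cs.v, ← Cs.v, ← h3]
  rcases f with f | f <;> rw [f]
  rw [mul_assoc _ S.t, S.t_v, mul_inv_rev, S.t_inv, mul_assoc, mul_assoc, mul_assoc, S.tt]

omit [Finite G] in
theorem not_Fm0 : ¬S.Fm θ 0 0 jx := fun h => by
  obtain ⟨k, hk, e, f⟩ := gg_f
  obtain ⟨n, hn, p, q⟩ := odd33
  have t : 0 < 2 := two_pos
  have u : 1024 < 2048 := by norm_num
  have v : 434 < 2048 := by norm_num
  have w : 1871 < 2048 := by norm_num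
  have a := Du.x.cj k
  have h1 := H.Fm_xy t t h Du.x x_M (fun _ => x_act) (c := 0) (by norm_num) w
  rw [H.xy_r, show _ ^^^ _ = 0 by decide +kernel, show _ ^^^ _ = 434 ^^^ 1871 by decide +kernel, H.xy_r, H.η_xor v w] at h1
  have h2 := H.Θ_xy a (mul_mem (mul_mem hk x_M) (inv_mem hk)) (by norm_num) (by norm_num) (by norm_num) (by norm_num : 0 < 2048)
    (H.Fm_cj t t h hk 1075 (by norm_num) 51 (by norm_num) f) f (by simp [vv_zero])
  rw [H.xy_r, show 51 = 1024 ^^^ 1075 by decide, H.η_xor u (by norm_num)] at h2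
  have h3 : S.ψ gg * θ 1024 * (S.ψ gg)⁻¹ = S.η θ 434 := by
    have a1 := H.Θ_cj a gg
    have a2 := H.Θ_eq gg (c := 1075) (by norm_num) (by decide +kernel)
    rw [e, H.Θ_v w (by decide +kernel)] at a1
    rw [gg_x] at a2
    have b1 : θ 1871 * (S.t * S.Θ θ jx * S.t) * (θ 1871)⁻¹ =
        S.t * (S.ψ gg * θ 1024 * (S.ψ gg)⁻¹) * S.t * (S.t * S.Θ θ jx * S.t) := by
      rw [a1, a2, ← S.t_cj, ← S.t_cj, conj_inv, conj_mul, conj_mul, conj_mul]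
      exact congrArg (fun y => S.ψ gg * y * (S.ψ gg)⁻¹) h2
    have b2 := congrArg (fun y => S.t * y * S.t) h1
    rw [inv_eq_of_mul_eq_one_right (H.sq w), ← mul_inv_eq_iff_eq_mul, S.t_mul_inv, H.Θ_inv Du.x] at b1
    simp only [Cs.η, H.Θ_inv Du.x, S.t_mul _ (S.Θ θ jx), S.t_mul (S.Θ θ jx), S.t_mul (S.t * θ 434 * S.t), S.t_t] at b2
    rw [← mul_inv_eq_iff_eq_mul, inv_eq_of_mul_eq_one_right (H.sq w)] at b2
    rw [Cs.η, ← inv_eq_of_mul_eq_one_right (H.sq v), ← b2, ← S.t_t (_ * _ * _), ← b1]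
    simp only [mul_inv_rev, S.t_inv, H.Θ_inv Du.x, inv_eq_of_mul_eq_one_right (H.sq w), mul_assoc]
  have h4 : S.ψ (n * gg⁻¹) * S.η θ 434 * (S.ψ (n * gg⁻¹))⁻¹ = θ 434 := by
    rw [← h3, ← H.cj hn u v p, map_mul, map_inv]; group
  have h5 : S.ψ (n * gg⁻¹) * θ 434 * (S.ψ (n * gg⁻¹))⁻¹ = S.η θ 434 := by
    have := congrArg (fun y => S.t * y * S.t) h4
    simp only [← S.t_cj, Cs.η, S.t_t] at this
    exact this
  have h6 : Commute (S.ψ (n * gg⁻¹) ^ 2) (θ 434) := by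
    rw [Commute, SemiconjBy, ← mul_inv_eq_iff_eq_mul, pow_two]
    conv_rhs => rw [← h4, ← h5]
    group
  have h7 : Commute (S.ψ (n * gg⁻¹)) (θ 434) := by
    have := h6.pow_left 17
    rwa [← pow_mul, show 2 * 17 = 33 + 1 from rfl, pow_succ, ← map_pow, q, map_one, one_mul] at this
  rw [h7.eq, mul_inv_cancel_right, ← H.xy_l, ← H.xy_r] at h5
  exact absurd (H.xy_inj v (by norm_num) (by norm_num) v h5).1 (by norm_num)

theorem good {k : J} (hk : k ∈ MM) {c : ℕ} (hc : c < 2048) :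
    S.Θ θ (k * jx * k⁻¹) * θ c * (S.Θ θ (k * jx * k⁻¹))⁻¹ = S.ψ (k * jx * k⁻¹) * θ c * (S.ψ (k * jx * k⁻¹))⁻¹ ∧
      S.Θ θ (k * jx * k⁻¹) * S.η θ c = S.η θ c * S.Θ θ (k * jx * k⁻¹) := by
  have h : S.Fm θ 1 0 jx := by
    obtain ⟨i, hi, j, hj, h⟩ := H.exists_Fm
    interval_cases j
    · interval_cases i
      exacts [absurd h H.not_Fm0, h]
    · exact absurd h (H.not_Fm1 hi)
  have a := Du.x.cj k
  have m := mul_mem (mul_mem hk x_M) (inv_mem hk)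
  obtain ⟨d, hd, e⟩ := exists_cj m hc
  have := H.Fm_cj one_lt_two two_pos h hk c hc d hd e
  simp only [Nat.sub_self, zero_mul, one_mul, Nat.zero_xor] at this
  refine ⟨by rw [this, H.xy_l, H.cj m hc hd e], ?_⟩
  rw [← mul_inv_eq_iff_eq_mul, H.Θ_xy a m hd (by norm_num) hc (by norm_num : 0 < 2048) this (by
    rw [← e, ← mul_assoc, ← mul_assoc, a.sq, one_mul, mul_assoc, ← mul_inv_rev, a.sq, inv_one, mul_one]) (by simp [vv_zero]), H.xy_r]

theorem cen_fix {y : G} (hy : y ∈ centralizer (H.X : Set G)) (h : S.t * y * S.t * y⁻¹ ∈ H.X) : y ∈ H.X := by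
  obtain ⟨c, hc, d, hd, e⟩ := id h
  have k : S.xy θ d c = S.xy θ c d := by
    rw [← H.t_xy hc hd, ← e]
    refine .trans ?_ (inv_eq_of_mul_eq_one_right (H.X_sq h))
    simp [mul_assoc, S.tt, S.t_inv]
  obtain rfl := (H.xy_inj hd hc hc hd k).1
  have m := mul_mem (show θ d ∈ centralizer _ from fun x hx => H.X_comm hx (H.θ_X hc)) hy
  have o : S.Ov (θ d * y) 0 := ⟨by norm_num, fun c hc => (m _ (H.v_X hc)).symm, by
    rw [S.v_zero, one_mul]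
    refine S.tfix ?_
    rw [S.t_mul, mul_inv_eq_iff_eq_mul.1 e, Cs.xy, H.θη hc hc, ← Cs.η, ← mul_assoc, ← mul_assoc, H.X_sq (H.η_X hc), one_mul]⟩
  obtain ⟨u, hu, f | f⟩ := Ct.ov_zero o
  · exact (mul_mem_cancel_left (H.θ_X hc)).1 (f ▸ H.v_X hu)
  have v : 1 < 2048 := by norm_num
  have := m _ (H.θ_X v)
  rw [f, ← mul_assoc, (H.ov 1 v).c u hu, mul_assoc, mul_assoc, mul_right_inj, ← mul_left_inj S.t, S.tt', ← Cs.η, ← H.xy_l, ← H.xy_r] at this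
  exact absurd (H.xy_inj v (by norm_num) (by norm_num) v this).1 (by norm_num)

end Th

theorem inv_mod [Finite G] {X C : Subgroup G} {t : G} (hn : ∀ y ∈ C, ∀ x ∈ X, y * x * y⁻¹ ∈ X) (ht : t * t = 1)
    (hC : ∀ y ∈ C, t * y * t ∈ C) (hX : ∀ x ∈ X, t * x * t ∈ X) (h : ∀ y ∈ C, t * y * t * y⁻¹ ∈ X → y ∈ X) {y : G} (hy : y ∈ C) :
    t * y * t * y ∈ X := by
  have ti := inv_eq_of_mul_eq_one_right ht
  let τ : C →* C := ((MulAut.conj t).toMonoidHom.comp C.subtype).codRestrict C fun y => by simpa [ti] using hC y y.2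
  have hτ : ∀ y, (τ y).1 = t * y * t := fun y => by simp [τ, ti]
  have : (X.subgroupOf C).Normal := ⟨fun x hx y => hn y y.2 x hx⟩
  let φ := QuotientGroup.map (X.subgroupOf C) (X.subgroupOf C) τ fun x hx => mem_subgroupOf.2 (hτ x ▸ hX x hx)
  have k := MonoidHom.FixedPointFree.coe_eq_inv_of_involutive (φ := φ)
    (fun q => QuotientGroup.induction_on q fun y e => (QuotientGroup.eq_one_iff _).2 (h y y.2 (by
      rw [← hτ]; exact (QuotientGroup.eq_one_iff (N := X.subgroupOf C) (τ y * y⁻¹)).1 (mul_inv_eq_one.2 e))))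
    fun q => QuotientGroup.induction_on q fun y => congrArg QuotientGroup.mk (Subtype.ext (by
      rw [hτ, hτ, mul_assoc t, mul_assoc, mul_assoc, ht, mul_one, ← mul_assoc, ht, one_mul]))
  rw [← hτ ⟨y, hy⟩]
  exact (QuotientGroup.eq_one_iff (N := X.subgroupOf C) (τ ⟨y, hy⟩ * (⟨y, hy⟩ : C))).1 (mul_eq_one_iff_eq_inv.2 (congrFun k (⟨y, hy⟩ : C)))

end Cfsg.Lib.SWJ
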