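import Cfsg.Agent.Lib.SW.B2

/-! # The lifts of the generators -/

set_option autoImplicit false
set_option maxRecDepth 100000

namespace Cfsg.Lib.SWJ

open Cfsg.Lib.Calc Cfsg.Lib.F2 Cfsg.Lib.Mathieu Cfsg.Lib.J4T Subgroup Cfsg.Lib.Transfer
open Cfsg.Lib.J4T.Md (rtV)

variable {G : Type*} [Group G]

theorem cen_cj {Y : Subgroup G} {g y : G} (hg : g ∈ normalizer (Y : Set G)) (hy : y ∈ centralizer (Y : Set G)) :
    g * y * g⁻¹ ∈ centralizer (Y : Set G) := fun x hx => by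
  have := hy _ (nrm_of (inv_mem hg) hx)
  calc _ = g * (g⁻¹ * x * g⁻¹⁻¹ * y) * g⁻¹ := by group
    _ = _ := by rw [this]; group

theorem odd_pow [Finite G] {X C : Subgroup G} (h : ∀ y ∈ C, y * y ∈ X → y ∈ X) {y : G} (hy : y ∈ C) : ∃ n, y ^ (2 * n + 1) ∈ X := by
  obtain ⟨k, m, ⟨n, rfl⟩, e⟩ := Nat.exists_eq_two_pow_mul_odd (orderOf_pos y).ne'
  have : ∀ k, (y ^ (2 * n + 1)) ^ 2 ^ k ∈ X → y ^ (2 * n + 1) ∈ X := fun k => by
    induction k with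
    | zero => simp
    | succ k ih => exact fun e => ih (h _ (pow_mem (pow_mem hy _) _) (by rwa [← sq, ← pow_mul, ← pow_succ]))
  exact ⟨n, this k (by rw [← pow_mul, mul_comm, ← e, pow_orderOf_eq_one]; exact one_mem _)⟩

/-- the lifts of the conjugates of `x` -/
def Cs.Bs (S : Cs G) (θ : ℕ → G) : Set G := {b | ∃ k ∈ MM, b = S.Θ θ (k * jx * k⁻¹)}

theorem Cs.Bs_x (S : Cs G) (θ : ℕ → G) : S.Θ θ jx ∈ S.Bs θ := ⟨1, one_mem _, by simp⟩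

namespace Th

section
variable {S : Cs G} {θ : ℕ → G} (H : Th S θ) {b g : G}
include H

theorem Bs_sq (hb : b ∈ S.Bs θ) : b * b = 1 := by obtain ⟨k, -, rfl⟩ := hb; exact H.Θ_sq (Du.x.cj k)
theorem Bs_cj (hb : b ∈ S.Bs θ) {g : J} (hg : g ∈ MM) : S.ψ g * b * (S.ψ g)⁻¹ ∈ S.Bs θ := by
  obtain ⟨k, hk, rfl⟩ := hb
  exact ⟨_, mul_mem hg hk, by rw [← H.Θ_cj (Du.x.cj k)]; congr 1; group⟩
theorem tri1 : ∃ k ∈ MM, ∃ l ∈ MM, S.Θ θ jx * S.Θ θ (k * jx * k⁻¹) * S.Θ θ (l * jx * l⁻¹) = 1 ∧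
    k * vv 434 * k⁻¹ = vv 434 ∧ l * vv 434 * l⁻¹ = vv 434 := by
  obtain ⟨k, hk, l, hl, p, q, r⟩ := tri
  refine ⟨k, hk, l, hl, ?_, r⟩
  rw [← p, ← q, ← gg_x, H.Θ_eq gg (by norm_num) (by decide +kernel), H.Θ_eq gg (by norm_num) (by decide +kernel),
    H.Θ_eq gg (by norm_num) (by decide +kernel), conj_mul, conj_mul, ← H.xor _ (by norm_num) _ (by norm_num),
    ← H.xor _ (by decide) _ (by norm_num), show _ ^^^ _ = 0 by decide, H.zero, mul_one, mul_inv_cancel]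

variable [Finite G]

/-- the first factor -/
def V1 : Subgroup G := fsub {g | ∃ c < 2048, g = θ c} ⟨0, by norm_num, H.zero.symm⟩
  (by rintro _ ⟨c, hc, rfl⟩ _ ⟨d, hd, rfl⟩; exact ⟨_, xlt hc hd, (H.xor c hc d hd).symm⟩)
theorem θ_V1 {c : ℕ} (hc : c < 2048) : θ c ∈ H.V1 := ⟨c, hc, rfl⟩
theorem M_V1 {g : J} (hg : g ∈ MM) : S.ψ g ∈ normalizer (H.V1 : Set G) := mem_normalizer_fintype (by
  rintro _ ⟨c, hc, rfl⟩
  obtain ⟨d, hd, e⟩ := exists_cj hg hc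
  exact ⟨d, hd, H.cj hg hc hd e⟩)
theorem xy_V1 {c d : ℕ} (hc : c < 2048) (hd : d < 2048) (h : S.xy θ c d ∈ H.V1) : d = 0 :=
  let ⟨e, he, f⟩ := h; (H.xy_inj hc hd he (by norm_num) (f.trans H.xy_l.symm)).2
theorem nX_of (h1 : g ∈ normalizer (H.V1 : Set G)) (h2 : ∀ c < 2048, g * S.η θ c = S.η θ c * g) : g ∈ normalizer (H.X : Set G) :=
  mem_normalizer_fintype (by
    rintro _ ⟨c, hc, d, hd, rfl⟩
    obtain ⟨e, he, f⟩ := nrm_of h1 (H.θ_V1 hc)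
    exact ⟨e, he, d, hd, by rw [Cs.xy, ← conj_mul, f, h2 d hd, mul_inv_cancel_right, Cs.xy]⟩)
theorem cX_of (h1 : ∀ c < 2048, g * θ c = θ c * g) (h2 : ∀ c < 2048, g * S.η θ c = S.η θ c * g) : g ∈ centralizer (H.X : Set G) := by
  rintro _ ⟨c, hc, d, hd, rfl⟩
  rw [Cs.xy, mul_assoc, ← h2 d hd, ← mul_assoc, ← h1 c hc, mul_assoc]

end

variable [Finite G] {S : Ct G} {θ : ℕ → G} (H : Th S.toCs θ) {b w g : G}
include H

theorem Bs_η (hb : b ∈ S.Bs θ) {c : ℕ} (hc : c < 2048) : b * S.η θ c = S.η θ c * b := by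
  obtain ⟨k, hk, rfl⟩ := hb; exact (H.good hk hc).2
theorem Bs_V1 (hb : b ∈ S.Bs θ) : b ∈ normalizer (H.V1 : Set G) := mem_normalizer_fintype (by
  obtain ⟨k, hk, rfl⟩ := hb
  rintro _ ⟨c, hc, rfl⟩
  exact (H.good hk hc).1 ▸ nrm_of (H.M_V1 (mul_mem (mul_mem hk x_M) (inv_mem hk))) (H.θ_V1 hc))
theorem Bs_nX (hb : b ∈ S.Bs θ) : b ∈ normalizer (H.X : Set G) := H.nX_of (H.Bs_V1 hb) fun _ => H.Bs_η hb
theorem Bs_θ (hb : b ∈ S.Bs θ) {c : ℕ} (hc : c < 2048) : S.t * b * S.t * θ c = θ c * (S.t * b * S.t) := by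
  rw [← S.t_t (θ c), ← S.t_mul, ← S.t_mul, ← Cs.η, H.Bs_η hb hc]

theorem cen_inv {y : G} (hy : y ∈ centralizer (H.X : Set G)) : S.t * y * S.t * y ∈ H.X :=
  inv_mod (fun y hy x hx => by rwa [← hy x hx, mul_inv_cancel_right]) S.t2 (fun y hy => by simpa only [S.t_inv] using cen_cj H.t_nX hy)
    (fun _ => H.t_X) (fun _ => H.cen_fix) hy
theorem cen_sq (y : G) (hy : y ∈ centralizer (H.X : Set G)) (h : y * y ∈ H.X) : y ∈ H.X :=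
  H.cen_fix hy (by simpa [mul_assoc] using mul_mem (H.cen_inv hy) (inv_mem h))

theorem comm_X (hb : b ∈ S.Bs θ) (hw : w ∈ S.Bs θ) : b * (S.t * w * S.t) * b⁻¹ * (S.t * w * S.t)⁻¹ ∈ H.X := by
  let E : Subgroup G := fsub {g | g ∈ normalizer (H.X : Set G) ∧ ∀ y ∈ centralizer (H.X : Set G), g * y * g⁻¹ * y⁻¹ ∈ H.X}
    ⟨one_mem _, fun y _ => by simp⟩ fun g p h q => ⟨mul_mem p.1 q.1, fun y hy => by
      convert mul_mem (nrm_of p.1 (q.2 y hy)) (p.2 y hy) using 1; group⟩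
  have h1 : ∀ n ∈ normalizer (H.X : Set G), ∀ g ∈ E, n * g * n⁻¹ ∈ E := fun n hn g p =>
    ⟨mul_mem (mul_mem hn p.1) (inv_mem hn), fun y hy => by
      convert nrm_of hn (p.2 _ (cen_cj (inv_mem hn) hy)) using 1; group⟩
  have n := H.Bs_nX (S.Bs_x θ)
  have h2 : S.ψ jx ∈ E := ⟨H.M_X x_M, fun y hy => by
    rw [← mul_inv_cancel_right (S.ψ jx) (S.Θ θ jx), ← H.Θ_t Du.x]
    convert mul_mem (H.t_X (nrm_of n (H.cen_inv (cen_cj (inv_mem n) hy)))) (H.cen_inv (inv_mem hy)) using 1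
    simp only [mul_inv_rev, S.t_inv, inv_inv, mul_assoc, mul_inv_cancel_left, S.tt]⟩
  have h3 : ∀ g ∈ MM, S.ψ g ∈ E := fun g hg => by
    obtain ⟨m, c, hc, rfl⟩ := Mdec hg
    have := top_of (N := (E.comap S.ψ).comap Λ1) ⟨fun a ha k => by
      simpa using h1 _ (H.M_X (Λ_mem k)) _ ha⟩ (show S.ψ (Λ1 _) ∈ E from Λ1_xb ▸ h2) xb_ne
    exact map_mul S.ψ _ _ ▸ mul_mem (this.ge (mem_top m)) ⟨le_normalizer (H.v_X hc), fun y hy => by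
      rw [← Cs.v, hy _ (H.v_X hc)]; simp⟩
  have h4 : ∀ b ∈ S.Bs θ, b * S.Θ θ jx ∈ E := by
    rintro _ ⟨k, hk, rfl⟩
    have := mul_mem (h3 k hk) (h1 _ n _ (inv_mem (h3 k hk)))
    rwa [H.Θ_inv Du.x, ← mul_assoc, ← mul_assoc, ← H.Θ_cj Du.x] at this
  have h5 : S.Θ θ jx ∈ E := by
    obtain ⟨k, hk, l, hl, e, -⟩ := H.tri1
    have := mul_mem (h1 _ n _ (h4 _ ⟨k, hk, rfl⟩)) (h4 _ ⟨l, hl, rfl⟩)
    rwa [mul_assoc (S.Θ θ jx), mul_inv_cancel_right, ← mul_assoc, e, one_mul] at this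
  have h6 : b * (S.t * w * S.t) * b⁻¹ * (S.t * w * S.t)⁻¹ ∈ centralizer (H.X : Set G) := by
    have p : S.t * w * S.t ∈ centralizer (H.V1 : Set G) := by rintro _ ⟨c, hc, rfl⟩; exact (H.Bs_θ hw hc).symm
    have q : S.t * b * S.t ∈ centralizer (H.V1 : Set G) := by rintro _ ⟨c, hc, rfl⟩; exact (H.Bs_θ hb hc).symm
    refine H.cX_of (fun c hc => (mul_mem (cen_cj (H.Bs_V1 hb) p) (inv_mem p) _ (H.θ_V1 hc)).symm) fun c hc => ?_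
    have := congrArg (fun y => S.t * y * S.t) (mul_mem q (cen_cj (H.Bs_V1 hw) (inv_mem q)) _ (H.θ_V1 hc)).symm
    simpa only [Cs.η, mul_inv_rev, S.t_inv, mul_assoc, S.tt, S.t2, mul_one] using this
  refine H.cen_sq _ h6 ?_
  have := inv_mem (((mul_mem_cancel_right h5).1 (h4 b hb)).2 _ h6)
  simpa only [mul_inv_rev, S.t_inv, mul_assoc, inv_eq_of_mul_eq_one_right (H.Bs_sq hb), inv_eq_of_mul_eq_one_right (H.Bs_sq hw),
    ← mul_assoc b b, H.Bs_sq hb, one_mul, mul_one] using this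

/-- the elements whose commutators with the second factor lie in `Y` -/
def Γ (Y : Subgroup G) (hY : ∀ g ∈ normalizer (H.V1 : Set G), (∀ c < 2048, g * S.η θ c = S.η θ c * g) → g ∈ normalizer (Y : Set G)) :
    Subgroup G := fsub {g | g ∈ normalizer (H.V1 : Set G) ∧ (∀ c < 2048, g * S.η θ c = S.η θ c * g) ∧
      ∀ w ∈ S.Bs θ, g * (S.t * w * S.t) * g⁻¹ * (S.t * w * S.t)⁻¹ ∈ Y} ⟨one_mem _, by simp, by simp⟩
  fun g p h q => ⟨mul_mem p.1 q.1, fun c hc => by rw [mul_assoc, q.2.1 c hc, ← mul_assoc, p.2.1 c hc, mul_assoc], fun w hw => by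
    convert mul_mem (nrm_of (hY g p.1 p.2.1) (q.2.2 w hw)) (p.2.2 w hw) using 1; group⟩

theorem comm_V1 (hb : b ∈ S.Bs θ) (hw : w ∈ S.Bs θ) : b * (S.t * w * S.t) * b⁻¹ * (S.t * w * S.t)⁻¹ ∈ H.V1 := by
  let A := H.Γ H.X fun _ => H.nX_of
  let F := H.Γ H.V1 fun _ h _ => h
  have h0 : ∀ b ∈ S.Bs θ, b ∈ A := fun b hb => ⟨H.Bs_V1 hb, fun _ => H.Bs_η hb, fun _ => H.comm_X hb⟩
  have h1 : ∀ g ∈ A, g * g ∈ F := fun g p => ⟨(mul_mem p p).1, (mul_mem p p).2.1, fun w hw => by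
    obtain ⟨c, hc, d, hd, e⟩ := p.2.2 w hw
    have : g * g * (S.t * w * S.t) * (g * g)⁻¹ * (S.t * w * S.t)⁻¹ = g * θ c * g⁻¹ * θ c := by
      calc _ = g * S.xy θ c d * g⁻¹ * S.xy θ c d := by rw [← e]; group
        _ = _ := by
          rw [Cs.xy, ← conj_mul, p.2.1 d hd, mul_inv_cancel_right, H.θη hc hd, mul_assoc, ← mul_assoc (S.η θ d), H.X_sq (H.η_X hd), one_mul]
    exact this ▸ mul_mem (nrm_of p.1 (H.θ_V1 hc)) (H.θ_V1 hc)⟩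
  have h2 : ∀ k ∈ MM, ∀ g ∈ F, S.ψ k * g * (S.ψ k)⁻¹ ∈ F := fun k hk g p => ⟨mul_mem (mul_mem (H.M_V1 hk) p.1) (inv_mem (H.M_V1 hk)),
    fun c hc => by
      obtain ⟨d, hd, e⟩ := exists_cj' hk hc
      rw [← H.η_cj hk hd hc e, conj_mul, conj_mul, p.2.1 d hd], fun w hw => by
      convert nrm_of (H.M_V1 hk) (p.2.2 _ (H.Bs_cj hw (inv_mem hk))) using 1
      rw [← S.t_cj, map_inv]; group⟩
  have h3 : ∀ d < 2048, S.η θ d ∈ F → d = 0 := fun d hd p => by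
    have key : ∀ d < 2048, S.η θ d ∈ F → act xb d = d := fun d hd p => by
      have := p.2.2 _ (S.Bs_x θ)
      have g := (H.good (one_mem _) hd).1
      simp only [one_mul, inv_one, mul_one, H.cj x_M hd (act_lt _ _) (x_act hd)] at g
      rw [Cs.η, S.t_mul_inv, S.t_mul_inv, ← S.t_mul, ← S.t_mul, ← S.t_mul, inv_eq_of_mul_eq_one_right (H.sq hd), mul_assoc (θ d),
        mul_assoc (θ d), g, ← H.xor _ hd _ (act_lt _ _), ← Cs.η, ← H.xy_r] at this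
      exact (Nat.xor_eq_zero_iff.1 (H.xy_V1 (by norm_num) (xlt hd (act_lt _ _)) this)).symm
    exact nofix hd (key d hd p) fun m c r => key _ (act_lt _ _) (H.η_cj (Λ_mem m) hd (act_lt _ _) (Λact r hd) ▸ h2 _ (Λ_mem m) _ p)
  obtain ⟨γ, hγ, h4⟩ : ∃ g ∈ F, ∀ c < 2048, g * θ c * g⁻¹ = S.ψ (Λ1 (Mathieu.mk xb)) * θ c * (S.ψ (Λ1 (Mathieu.mk xb)))⁻¹ := by
    let U : Subgroup M24 := fsub {m | ∃ g ∈ F, ∀ c < 2048, g * θ c * g⁻¹ = S.ψ (Λ1 m) * θ c * (S.ψ (Λ1 m))⁻¹}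
      ⟨1, one_mem _, by simp⟩ fun m ⟨g, p, q⟩ n ⟨h, r, s⟩ => ⟨_, mul_mem p r, fun c hc => by
        obtain ⟨d, hd, e⟩ := exists_cj (Λ_mem n) hc
        rw [mul_inv_rev, map_mul, map_mul, mul_inv_rev, show ∀ a b c : G, a * b * c * (b⁻¹ * a⁻¹) = a * (b * c * b⁻¹) * a⁻¹ from
          fun _ _ _ => by group, s c hc, mul_assoc (S.ψ (Λ1 m)), mul_assoc (S.ψ (Λ1 m)), ← mul_assoc (_ * θ c), H.cj (Λ_mem n) hc hd e,
          q d hd, mul_assoc]⟩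
    refine (top_of (N := U) ⟨fun m ⟨g, p, q⟩ n => ⟨_, h2 _ (Λ_mem n) _ p, fun c hc => ?_⟩⟩
      ⟨_, h1 _ (mul_mem (h0 _ (S.Bs_x θ)) (h0 _ ⟨_, y_M, rfl⟩)), fun c hc => ?_⟩ sq_ne).ge (mem_top _)
    · obtain ⟨d, hd, e⟩ := exists_cj' (Λ_mem n) hc
      rw [← H.cj (Λ_mem n) hd hc e, conj_inv, conj_mul, conj_mul, q d hd]
      simp [mul_assoc]
    · have key : ∀ c < 2048, S.Θ θ jx * S.Θ θ (jy * jx * jy⁻¹) * θ c * (S.Θ θ jx * S.Θ θ (jy * jx * jy⁻¹))⁻¹ =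
          S.ψ (jx * (jy * jx * jy⁻¹)) * θ c * (S.ψ (jx * (jy * jx * jy⁻¹)))⁻¹ := fun c hc => by
        have m := mul_mem (mul_mem y_M x_M) (inv_mem y_M)
        obtain ⟨d, hd, e⟩ := exists_cj m hc
        have g := (H.good (one_mem _) hd).1
        simp only [one_mul, inv_one, mul_one] at g
        rw [map_mul, show ∀ a b c : G, a * b * c * (a * b)⁻¹ = a * (b * c * b⁻¹) * a⁻¹ from fun _ _ _ => by group,
          show ∀ a b c : G, a * b * c * (a * b)⁻¹ = a * (b * c * b⁻¹) * a⁻¹ from fun _ _ _ => by group, (H.good y_M hc).1,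
          H.cj m hc hd e, g]
      have m := mul_mem x_M (mul_mem (mul_mem y_M x_M) (inv_mem y_M))
      obtain ⟨d, hd, e⟩ := exists_cj m hc
      rw [pow_two, map_mul Λ1, map_mul Λ1, map_mul Λ1, map_mul Λ1, map_inv, Λ1_xb, Λ1_yb, map_mul S.ψ (_ * _),
        show ∀ a c : G, a * a * c * (a * a)⁻¹ = a * (a * c * a⁻¹) * a⁻¹ from fun _ _ => by group,
        show ∀ a c : G, a * a * c * (a * a)⁻¹ = a * (a * c * a⁻¹) * a⁻¹ from fun _ _ => by group, key c hc, H.cj m hc hd e, key d hd]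
  obtain ⟨d, hd, h5⟩ : ∃ d < 2048, S.η θ d * S.Θ θ jx ∈ F := by
    have a : γ⁻¹ * S.Θ θ jx ∈ A := mul_mem (inv_mem ⟨hγ.1, hγ.2.1, fun w hw => let ⟨_, p, q⟩ := hγ.2.2 w hw; q ▸ H.θ_X p⟩) (h0 _ (S.Bs_x θ))
    obtain ⟨n, c, hc, d, hd, e⟩ := odd_pow H.cen_sq (H.cX_of (fun c hc => by
      have g := (H.good (one_mem _) hc).1
      simp only [one_mul, inv_one, mul_one] at g
      rw [Λ1_xb] at h4
      rw [mul_assoc, mul_inv_eq_iff_eq_mul.1 (g.trans (h4 c hc).symm)]; group) a.2.1)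
    have p : θ c ∈ F := ⟨le_normalizer (H.θ_V1 hc), fun _ => H.θη hc, fun w hw => by rw [← H.Bs_θ hw hc]; simp⟩
    refine ⟨d, hd, ?_⟩
    have := mul_mem hγ (mul_mem p (h1 _ (pow_mem a (n + 1))))
    rwa [← pow_add, show n + 1 + (n + 1) = 2 * n + 1 + 1 by ring, pow_succ, e, Cs.xy, ← mul_assoc (θ c), ← mul_assoc (θ c), H.sq hc,
      one_mul, ← mul_assoc, hγ.2.1 d hd, mul_assoc, mul_inv_cancel_left] at this
  have h6 : ∀ k ∈ MM, ∀ e < 2048, k * vv d * k⁻¹ = vv e → S.η θ e * S.Θ θ (k * jx * k⁻¹) ∈ F := fun k hk e he f => by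
    rw [H.Θ_cj Du.x, ← H.η_cj hk hd he f, conj_mul]; exact h2 k hk _ h5
  rcases fix434 hd fun m c r e => Nat.xor_eq_zero_iff.1 (h3 _ (xlt (act_lt c d) hd) (by
    have := mul_mem (h6 _ (Λ_mem m) _ (act_lt _ _) (Λact r hd)) (inv_mem h5)
    rwa [e, mul_inv_cancel_right, mul_inv_rev, mul_assoc, mul_inv_cancel_left, inv_eq_of_mul_eq_one_right (H.X_sq (H.η_X hd)),
      ← H.η_xor (act_lt _ _) hd] at this)) with rfl | rfl
  · obtain ⟨k, hk, rfl⟩ := hb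
    have := h6 k hk 0 hd (by simp [vv_zero])
    rw [H.η_zero, one_mul] at this
    exact this.2.2 w hw
  · obtain ⟨k, hk, l, hl, e, p, q⟩ := H.tri1
    have := mul_mem (mul_mem h5 (h6 k hk _ hd p)) (h6 l hl _ hd q)
    rw [← mul_assoc (_ * S.Θ θ jx), mul_assoc _ (S.Θ θ jx), H.Bs_η (S.Bs_x θ) hd, ← mul_assoc, ← mul_assoc (S.η θ 434), H.X_sq (H.η_X hd), one_mul,
      mul_assoc (S.Θ θ jx), H.Bs_η ⟨k, hk, rfl⟩ hd, ← mul_assoc, H.Bs_η (S.Bs_x θ) hd, mul_assoc (S.η θ 434), mul_assoc (S.η θ 434), e,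
      mul_one] at this
    exact absurd (h3 _ hd this) (by norm_num)

theorem comm_Bs (hb : b ∈ S.Bs θ) (hw : w ∈ S.Bs θ) : b * (S.t * w * S.t) = S.t * w * S.t * b := by
  obtain ⟨c, hc, e⟩ := H.comm_V1 hb hw
  have := inv_mem (H.comm_V1 hw hb)
  rw [show (w * (S.t * b * S.t) * w⁻¹ * (S.t * b * S.t)⁻¹)⁻¹ = S.t * (b * (S.t * w * S.t) * b⁻¹ * (S.t * w * S.t)⁻¹) * S.t by
    simp only [mul_inv_rev, S.t_inv, mul_assoc, S.t2, mul_one, inv_inv], e, ← Cs.η, ← H.xy_r] at this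
  rw [H.xy_V1 (by norm_num) hc this, H.zero, mul_inv_eq_one, mul_inv_eq_iff_eq_mul] at e
  exact e

theorem comm_DD {a a' : J} (h : DD a) (h' : DD a') : S.Θ θ a * (S.t * S.Θ θ a' * S.t) = S.t * S.Θ θ a' * S.t * S.Θ θ a := by
  obtain ⟨c, hc, p, rfl⟩ | ⟨k, hk, rfl⟩ := h <;> obtain ⟨d, hd, q, rfl⟩ | ⟨l, hl, rfl⟩ := h'
  · rw [H.Θ_v hc p, H.Θ_v hd q]; exact H.θη hc hd
  · rw [H.Θ_v hc p]; exact (H.Bs_θ ⟨l, hl, rfl⟩ hc).symm
  · rw [H.Θ_v hd q]; exact H.Bs_η ⟨k, hk, rfl⟩ hd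
  · exact H.comm_Bs ⟨k, hk, rfl⟩ ⟨l, hl, rfl⟩

end Th

theorem Ct.exists_lift [Finite G] (S : Ct G) {N : Subgroup G} (hN : N.Normal) (h : ∀ a, S.ψ a ∈ N) : ∃ (s : Set J) (β : J → G),
    closure s = ⊤ ∧ (∀ a ∈ s, β a ∈ N ∧ β a * β a = 1 ∧ β a * (S.t * β a * S.t) = S.ψ a) ∧
      ∀ a ∈ s, ∀ b ∈ s, β a * (S.t * β b * S.t) = S.t * β b * S.t * β a := by
  obtain ⟨θ, H⟩ := S.exists_th
  obtain ⟨s, h1, h2⟩ := exists_gen
  refine ⟨s, S.Θ θ, h1, fun a ha => ?_, fun a ha b hb => ?_⟩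
  · obtain ⟨g, a', -, p, -, rfl, -⟩ := h2 a ha a ha
    have := p.du.cj g
    refine ⟨?_, H.Θ_sq this, by rw [H.Θ_t this, H.Θ_comm this rfl, ← mul_assoc, H.Θ_sq this, one_mul]⟩
    rw [Cs.Θ]
    split_ifs
    swap
    · exact one_mem _
    obtain ⟨m, e⟩ := exists_act (c := 1) (d := 16) (by norm_num) (by norm_num) (by decide +kernel)
    refine hN.conj_mem _ ?_ _
    rw [show 17 = 1 ^^^ 16 by decide, H.xor _ (by norm_num) _ (by norm_num), ← H.cj (Λ_mem m) (by norm_num) (by norm_num) e]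
    simpa [mul_assoc, inv_eq_of_mul_eq_one_right (H.sq (c := 1) (by norm_num))] using
      mul_mem (hN.conj_mem _ (h (Λ1 m)) (θ 1)) (inv_mem (h (Λ1 m)))
  · obtain ⟨g, a', b', p, q, rfl, rfl⟩ := h2 a ha b hb
    rw [H.Θ_cj p.du, H.Θ_cj q.du, ← S.t_cj, conj_mul, conj_mul, H.comm_DD p q]

end Cfsg.Lib.SWJ
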