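import Cfsg.Agent.Lib.J4T.ThM
import Cfsg.Agent.Lib.J4T.MaxP
import Cfsg.Agent.Lib.Coprime.Generation
import Cfsg.Agent.S1563

/-! # Facts on J₄ used for the standard form problem -/

set_option autoImplicit false
set_option maxRecDepth 100000

namespace Cfsg.Lib.SWJ

open Cfsg.Lib.Calc Cfsg.Lib.F2 Cfsg.Lib.Mathieu Cfsg.Lib.Big Cfsg.Lib.J4 Cfsg.Lib.J4T Subgroup Cfsg.Lib.Transfer
open Cfsg.Lib.Golay (pc isCW)
open Cfsg.Lib.J4T.Md (rtV)
open scoped Pointwise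

/-- the Janko group -/
abbrev J : Type := Spor.J4
/-- the elements of `V` -/
noncomputable def vv (c : ℕ) : J := L1.vv c
/-- the group `2¹¹` -/
noncomputable def VV : Subgroup J := L1.V
/-- the group `2¹¹ M₂₄` -/
noncomputable def MM : Subgroup J := Γ1.M
/-- action of a permutation on coordinates -/
noncomputable def act (c v : ℕ) : ℕ := app 11 (NM c) v

instance simpleJ : IsSimpleGroup J := J4.isJ4.1
theorem cardJ : Nat.card J = 86775571046077562880 := J4.isJ4.2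

theorem xlt {a b : ℕ} (ha : a < 2048) (hb : b < 2048) : a ^^^ b < 2048 := Nat.xor_lt_two_pow (n := 11) ha hb
theorem act_lt (c v : ℕ) : act c v < 2048 := app_lt 11 _ _
theorem act_xor (c a b : ℕ) : act c (a ^^^ b) = act c a ^^^ act c b := app_xor ..
theorem act_zero (c : ℕ) : act c 0 = 0 := by simpa using act_xor c 0 0
theorem vv_xor (c d : ℕ) : vv (c ^^^ d) = vv c * vv d := L1.vv_xor c d
theorem vv_zero : vv 0 = 1 := L1.vv_zero
theorem vv_sq (c : ℕ) : vv c * vv c = 1 := L1.vv_sq c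
theorem vv_inv (c : ℕ) : (vv c)⁻¹ = vv c := L1.vv_inv c
theorem vv_comm (c d : ℕ) : vv c * vv d = vv d * vv c := L1.vv_comm c d
theorem vv_inj {c d : ℕ} (hc : c < 2048) (hd : d < 2048) (h : vv c = vv d) : c = d := L1.vv_inj hc hd h
theorem vv_ne {c : ℕ} (hc : c < 2048) (h : c ≠ 0) : vv c ≠ 1 := fun e => h (L1.vv_eq_one hc e)
theorem vv_z : vv 1024 = L1.z := L1.vv_z
theorem mem_V {g : J} : g ∈ VV ↔ ∃ c < 2048, g = vv c := L1.mem_V
theorem vv_mem {c : ℕ} (hc : c < 2048) : vv c ∈ VV := L1.vv_mem hc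
theorem V_comm {x y : J} (hx : x ∈ VV) (hy : y ∈ VV) : x * y = y * x := L1.V_comm hx hy
theorem V_sq {x : J} (hx : x ∈ VV) : x * x = 1 := L1.V_sq hx
theorem card_V : Nat.card VV = 2 ^ 11 := L1.card_V
theorem V_ea : IsElementaryAbelian 2 VV := L1.V_ea
theorem pg_V : IsPGroup 2 VV := .of_card card_V
theorem MM_eq : MM = normalizer (VV : Set J) := M1
theorem V_le : VV ≤ MM := Γ1.VM
theorem Λ_mem (m : M24) : Λ1 m ∈ MM := Λ1_mem m
theorem Λact {m : M24} {c v : ℕ} (h : R m c) (hv : v < 2048) : Λ1 m * vv v * (Λ1 m)⁻¹ = vv (act c v) := sec1.act h v hv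
theorem Mdec {g : J} (hg : g ∈ MM) : ∃ m, ∃ c < 2048, g = Λ1 m * vv c := ⟨_, sec1.dec hg⟩
theorem conj_V {g x : J} (hg : g ∈ MM) (hx : x ∈ VV) : g * x * g⁻¹ ∈ VV := (mem_normalizer_iff.1 (MM_eq.le hg) x).1 hx
theorem vv_conj (c d : ℕ) : vv c * vv d * (vv c)⁻¹ = vv d := by rw [vv_comm, mul_inv_cancel_right]
theorem Mact {g : J} (hg : g ∈ MM) : ∃ m c e, R m c ∧ e < 2048 ∧ g = Λ1 m * vv e ∧ ∀ v < 2048, g * vv v * g⁻¹ = vv (act c v) := by
  obtain ⟨m, e, he, rfl⟩ := Mdec hg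
  obtain ⟨c, hc⟩ := exists_R m
  refine ⟨m, c, e, hc, he, rfl, fun v hv => ?_⟩
  rw [← Λact hc hv, mul_assoc (Λ1 m), vv_comm]
  group
theorem act_mulT {g h : M24} {c d v : ℕ} (hg : R g c) (hh : R h d) (hv : v < 2048) : act (mulT c d) v = act c (act d v) := by
  refine vv_inj (act_lt _ _) (act_lt _ _) ?_
  rw [← Λact (hg.mulT hh) hv, ← Λact hg (act_lt _ _), ← Λact hh hv, map_mul]
  group
theorem act_lin {g : M24} {c m : ℕ} (hg : R g c) (hm : m < 2 ^ 24) (h : pc m % 2 = 0) : act c (lin m) = lin (img c m) :=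
  vv_inj (act_lt _ _) (lin_lt _) ((Λact hg (lin_lt m)).symm.trans
    (Γ1.conj _ (Λ1_mem g) c ((ρ_Λ1 g).symm ▸ hg) m hm h))

theorem cenV {g : J} (h : ∀ c < 2048, g * vv c = vv c * g) : g ∈ VV :=
  L1.mem_V_of_comm ((mem_centralizer_singleton_iff (g := L1.z)).2 (vv_z ▸ h 1024 (by norm_num))) fun u hu =>
    L1.vv_u hu ▸ h u (by omega)

theorem exists_rt {c : ℕ} (hc : c < 2048) : ∃ m, Λ1 m * vv (rtV c) * (Λ1 m)⁻¹ = vv c := Md.exists_rtV hc
theorem rt_zero : allBig 2048 (fun c => bor (blt 0 (rtV c)) (Nat.beq c 0)) = true := by decide +kernel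
theorem rt_cases {c : ℕ} (hc : c < 2048) (h : c ≠ 0) : rtV c = 17 ∨ rtV c = 1024 :=
  (Md.rtV_cases c).resolve_left fun e => by
    simpa [e, bor_eq_true, blt_iff, beq_iff, h] using allBig_iff.1 rt_zero c hc
theorem rt_lt (c : ℕ) : rtV c < 2048 := by rcases Md.rtV_cases c with h | h | h <;> omega
theorem rt_ne {c : ℕ} (h : rtV c ≠ 0) : c ≠ 0 := by rintro rfl; exact h (by decide +kernel)
theorem isConj_rt {c : ℕ} (hc : c < 2048) : IsConj (vv (rtV c)) (vv c) := isConj_iff.2 (let ⟨_, e⟩ := exists_rt hc; ⟨_, e⟩)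
theorem rt_eq {c d : ℕ} (hc : c < 2048) (hd : d < 2048) (h : IsConj (vv c) (vv d)) : rtV c = rtV d := by
  have := ((isConj_rt hc).trans h).trans (isConj_rt hd).symm
  have a : ¬IsConj (vv 1024) (vv 17) := vv_z ▸ Md.not_conj_17
  have b := vv_ne (c := 17) (by norm_num) (by norm_num)
  have c' := vv_ne (c := 1024) (by norm_num) (by norm_num)
  rcases Md.rtV_cases c with e | e | e <;> rcases Md.rtV_cases d with f | f | f <;> rw [e, f] at this ⊢ <;>
    first | rfl | exact absurd this a | exact absurd this.symm a | simp_all [vv_zero]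
theorem rt_act {m : M24} {c v : ℕ} (h : R m c) (hv : v < 2048) : rtV (act c v) = rtV v :=
  (rt_eq hv (act_lt _ _) (isConj_iff.2 ⟨_, Λact h hv⟩)).symm
theorem exists_act {c d : ℕ} (hc : c < 2048) (hd : d < 2048) (h : rtV c = rtV d) : ∃ m, Λ1 m * vv c * (Λ1 m)⁻¹ = vv d := by
  obtain ⟨m, e⟩ := exists_rt hc
  obtain ⟨n, f⟩ := exists_rt hd
  exact ⟨n * m⁻¹, by rw [← e, ← f, h, map_mul, map_inv]; group⟩

theorem toV {a : J} (h : a * a = 1) : ∃ g, ∃ c < 2048, g * a * g⁻¹ = vv c := by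
  by_cases e : a = 1
  · exact ⟨1, 0, by norm_num, by simp [e, vv_zero]⟩
  rcases modJ.two (orderOf_eq_prime ((sq a).trans h) e) with k | k <;> obtain ⟨g, k⟩ := isConj_iff.1 k.symm
  exacts [⟨g, 1024, by norm_num, k.trans vv_z.symm⟩, ⟨g, _, lin_lt 3, k⟩]

theorem ea_conj {Y : Subgroup J} (he : IsElementaryAbelian 2 Y) (hc : 2 ^ 11 ≤ Nat.card Y) : ∃ g, g ⋆ Y = VV := by
  obtain ⟨g, hg⟩ := L1.exists_conj_T' H1 (Q := Y) fun x => ⟨1, Subtype.ext (by simpa using he.2 x x.2)⟩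
  exact ⟨g, Loc.eq_V hg ⟨have := he.1; inferInstance, by rintro _ ⟨y, hy, rfl⟩; rw [← map_pow, he.2 y hy, map_one]⟩
    (by rwa [card_conj])⟩

theorem ea_eq {Y : Subgroup J} (he : IsElementaryAbelian 2 Y) (hc : 2 ^ 11 ≤ Nat.card Y) (h : Y ≤ MM) : Y = VV := by
  obtain ⟨g, hg⟩ := ea_conj he hc
  rw [conj_eq_iff_eq_inv_conj] at hg
  exact hg.trans (L1.eq_of_le_norm H1 (hg ▸ MM_eq ▸ h))

theorem two_le_M {S : Subgroup J} (hS : IsPGroup 2 S) (h : VV ≤ S) : S ≤ MM := fun g hg =>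
  MM_eq.ge (conj_eq_self_iff.1 (L1.uniq H1 hS (L1.ea_conj g) ((card_conj _ _).trans card_V) V_ea card_V
    (conj_le_iff.2 fun x hx => mul_mem (mul_mem hg (h hx)) (inv_mem hg)) h))

/-- there are no transvections -/
theorem trans {g u : J} (hg : g ∈ MM) (h : ∀ x ∈ VV, g * x * g⁻¹ * x = 1 ∨ g * x * g⁻¹ * x = u) : g ∈ VV := by
  by_contra hn
  have h1 : ∀ x ∈ VV, g * g * x = x * (g * g) := fun x hx => by
    have a : ∀ {y}, y ∈ VV → g * y * g⁻¹ * y = 1 → g * y * g⁻¹ = y := fun hy e => by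
      rw [eq_inv_of_mul_eq_one_left e, inv_eq_of_mul_eq_one_right (V_sq hy)]
    rw [← mul_inv_eq_iff_eq_mul, show g * g * x * (g * g)⁻¹ = g * (g * x * g⁻¹) * g⁻¹ by group]
    rcases h x hx with e | e
    · rw [a hx e, a hx e]
    · rcases h _ (conj_V hg hx) with f | f
      · rw [a (conj_V hg hx) f, (mul_left_cancel (mul_right_cancel (a (conj_V hg hx) f)) :)]
      · rw [← e, V_comm (conj_V hg hx) hx, mul_left_inj] at f
        exact f
  have h2 : g * g ∈ VV := cenV fun c hc => h1 _ (vv_mem hc)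
  have h3 : IsPGroup 2 ↥(VV ⊔ zpowers g) := pg_V.to_sup_of_normal_left'
    (.of_card_dvd_pow (n := 2) (by
      rw [Nat.card_zpowers]; exact orderOf_dvd_of_pow_eq_one (by rw [sq, pow_mul, sq, sq, V_sq h2])))
    (zpowers_le.2 (MM_eq.le hg))
  obtain ⟨k, hk⟩ := L1.exists_conj_T' H1 h3
  have h4 : k ⋆ VV = VV := Loc.eq_V ((conj_mono k le_sup_left).trans hk) (L1.ea_conj k) ((card_conj _ _).trans card_V).ge
  have h5 := MM_eq.ge (conj_eq_self_iff.1 h4)
  have h6 : k * g * k⁻¹ ∈ L1.T := hk (conj_mem_conj.2 (mem_sup_right (mem_zpowers g)))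
  obtain ⟨c, hc, d, hd, e⟩ := L1.three (L1.T_le h6) (L1.T_le_norm h6) fun e => hn (conj_mem_conj.1 (h4.ge e))
  have h7 : ∀ x < 2048, k * g * k⁻¹ * vv x * (k * g * k⁻¹)⁻¹ * vv x = 1 ∨ k * g * k⁻¹ * vv x * (k * g * k⁻¹)⁻¹ * vv x = k * u * k⁻¹ :=
    fun x hx => (h _ (conj_V (inv_mem h5) (vv_mem hx))).imp (fun f => by simpa [mul_assoc] using congrArg (fun t => k * t * k⁻¹) f)
      fun f => by rw [← f]; group
  have a := (h7 c hc).resolve_left fun f => e c (by simp) (f ▸ one_mem _)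
  have b := (h7 d hd).resolve_left fun f => e d (by simp) (f ▸ one_mem _)
  refine e (c ^^^ d) (by simp) ?_
  change _ * vv _ * _ * vv _ ∈ _
  have m := mul_mem (mul_mem h5 hg) (inv_mem h5)
  rw [vv_xor, ← conj_mul, mul_assoc, ← mul_assoc _ (vv c), V_comm (conj_V m (vv_mem hd)) (vv_mem hc), mul_assoc (vv c),
    ← mul_assoc, a, b, ← a, V_sq (mul_mem (conj_V m (vv_mem hc)) (vv_mem hc))]
  exact one_mem _

/-- generators of stabilisers of vectors -/
noncomputable def sg (u i : ℕ) : ℕ := F2.nth 0 [975646517370840182194860499075250480, 977475608096658527270947407126833587,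
  153876914186203494420148113910257268, 255168149116596196832087788883034435] (u / 512 + i)

theorem sg_chk : allL [17, 1024] (fun u => band (allLt 2 fun i => band (okM (sg u i)) (Nat.beq (act (sg u i) u) u))
    (forceB (NM (sg u 0)) fun A => forceB (NM (sg u 1)) fun B => allBig 2048 fun c => bor (bor (Nat.beq c 0) (Nat.beq c u))
      (bor (forceB (Nat.xor (app 11 A c) c) fun x => band (blt 0 x) (!Nat.beq x u))
        (forceB (Nat.xor (app 11 B c) c) fun x => band (blt 0 x) (!Nat.beq x u))))) = true := by decide +kernel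

theorem FQ0 {u : ℕ} (hu : u ∈ [17, 1024]) {a : J}
    (h : ∀ g ∈ MM, g * vv u = vv u * g → g * a * g⁻¹ * a⁻¹ = 1 ∨ g * a * g⁻¹ * a⁻¹ = vv u) : a = 1 ∨ a = vv u := by
  have hu' : u < 2048 := by simp at hu; omega
  have h1 : ∀ x ∈ VV, a * x * a⁻¹ * x = 1 ∨ a * x * a⁻¹ * x = vv u := fun x hx => by
    have := h x (V_le hx) (V_comm hx (vv_mem hu'))
    rw [← inv_inj, ← inv_inj (b := vv u), inv_one, vv_inv, show (x * a * x⁻¹ * a⁻¹)⁻¹ = a * x * a⁻¹ * x⁻¹ by group,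
      inv_eq_of_mul_eq_one_right (V_sq hx)] at this
    exact this
  obtain ⟨c, hc, rfl⟩ := mem_V.1 (trans (MM_eq.ge (mem_normalizer_fintype fun x hx => (mul_mem_cancel_right hx).1
    ((h1 x hx).elim (· ▸ one_mem _) (· ▸ vv_mem hu')))) h1)
  have k := allL_iff.1 sg_chk u hu
  simp only [band_eq_true, forceB_eq, allLt_iff, allBig_iff, bor_eq_true, beq_iff, blt_iff] at k
  have h2 : ∀ i < 2, ¬(0 < Nat.xor (act (sg u i) c) c ∧ (!Nat.beq (Nat.xor (act (sg u i) c) c) u) = true) := fun i hi e => by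
    have r := mk_rep (k.1 i hi).1
    have := h _ (Λ_mem (mk (sg u i))) (mul_inv_eq_iff_eq_mul.1 ((Λact r hu').trans (by rw [(k.1 i hi).2])))
    rw [Λact r hc, vv_inv, ← vv_xor, ← vv_zero] at this
    exact this.elim (fun f => e.1.ne' (vv_inj (xlt (act_lt _ _) hc) (by norm_num) f))
      fun f => ne_of_not_beq e.2 (vv_inj (xlt (act_lt _ _) hc) hu' f)
  rcases k.2 c hc with (rfl | rfl) | e | e
  exacts [.inl vv_zero, .inr rfl, absurd e (h2 0 (by norm_num)), absurd e (h2 1 (by norm_num))]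

theorem rt_mem {c : ℕ} (hc : c < 2048) (h : c ≠ 0) : rtV c ∈ [17, 1024] := by simpa using rt_cases hc h

theorem FQM {u : ℕ} (hu : u < 2048) (h0 : u ≠ 0) {a : J}
    (h : ∀ g ∈ MM, g * vv u = vv u * g → g * a * g⁻¹ * a⁻¹ = 1 ∨ g * a * g⁻¹ * a⁻¹ = vv u) : a = 1 ∨ a = vv u := by
  obtain ⟨m, e⟩ := exists_rt hu
  refine (FQ0 (a := (Λ1 m)⁻¹ * a * Λ1 m) (rt_mem hu h0) fun g hg f => ?_).imp
    (fun f => by simpa [mul_assoc] using congrArg (fun t => Λ1 m * t * (Λ1 m)⁻¹) f) fun f => by rw [← e, ← f]; group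
  refine (h _ (mul_mem (mul_mem (Λ_mem m) hg) (inv_mem (Λ_mem m))) (by rw [← e, conj_mul, conj_mul, f])).imp (fun k => ?_) fun k => ?_
  · simpa [mul_assoc] using congrArg (fun t => (Λ1 m)⁻¹ * t * Λ1 m) k
  · rw [← e] at k
    rw [show vv (rtV u) = (Λ1 m)⁻¹ * (Λ1 m * vv (rtV u) * (Λ1 m)⁻¹) * Λ1 m by group, ← k]; group

theorem FQ {j a : J} (h2 : j * j = 1) (h1 : j ≠ 1)
    (h : ∀ g, g * j = j * g → g * a * g⁻¹ * a⁻¹ = 1 ∨ g * a * g⁻¹ * a⁻¹ = j) : a = 1 ∨ a = j := by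
  obtain ⟨k, u, hu, e⟩ := toV h2
  refine (FQM (a := k * a * k⁻¹) hu (fun f => h1 (by simpa [f, vv_zero] using e)) fun g _ f => ?_).imp
    (fun f => by simpa using f) fun f => by simpa [← e] using f
  refine (h (k⁻¹ * g * k) ?_).imp (fun l => ?_) fun l => ?_
  · rw [← e] at f
    calc _ = k⁻¹ * (g * (k * j * k⁻¹)) * k := by group
      _ = _ := by rw [f]; group
  · simpa [mul_assoc] using congrArg (fun t => k * t * k⁻¹) l
  · rw [← e, ← l]; group

/-- an involution lies in the derived group of its centraliser -/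
theorem der {G : Type*} [Group G] (ψ : J →* G) {D : Subgroup G} {a : J} (h2 : a * a = 1)
    (h : ∀ x y, x * a = a * x → y * a = a * y → ψ (x * y * x⁻¹ * y⁻¹) ∈ D) : ψ a ∈ D := by
  by_cases h1 : a = 1
  · simp [h1]
  obtain ⟨k, u, hu, e⟩ := toV h2
  have h0 : u ≠ 0 := fun f => h1 (by simpa [f, vv_zero] using e)
  obtain ⟨m, f⟩ := exists_rt hu
  have k1 := allL_iff.1 sg_chk _ (rt_mem hu h0)
  simp only [band_eq_true, allLt_iff, beq_iff] at k1
  have e' : a = (k⁻¹ * Λ1 m) * vv (rtV u) * (k⁻¹ * Λ1 m)⁻¹ := by rw [mul_assoc k⁻¹, mul_inv_rev, ← mul_assoc, mul_assoc k⁻¹, f, ← e]; group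
  generalize k⁻¹ * Λ1 m = g at e'
  have key : ∀ i < 2, ∀ c < 2048, ψ (g * vv (act (sg (rtV u) i) c ^^^ c) * g⁻¹) ∈ D := fun i hi c hc => by
    have r := mk_rep (k1.1 i hi).1
    have := h (g * Λ1 (mk (sg (rtV u) i)) * g⁻¹) (g * vv c * g⁻¹) (by
      rw [e', conj_mul, conj_mul, mul_inv_eq_iff_eq_mul.1 ((Λact r (rt_lt u)).trans (by rw [(k1.1 i hi).2]))])
      (by rw [e', conj_mul, conj_mul, vv_comm])
    rwa [conj_inv, conj_inv, conj_mul, conj_mul, conj_mul, Λact r hc, vv_inv, ← vv_xor] at this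
  rcases rt_cases hu h0 with l | l <;> rw [l] at key e'
  · have := mul_mem (key 0 (by norm_num) 225 (by norm_num)) (key 1 (by norm_num) 37 (by norm_num))
    rwa [← map_mul, conj_mul, ← vv_xor, show _ ^^^ _ = 17 by decide +kernel, ← e'] at this
  · have := mul_mem (key 0 (by norm_num) 15 (by norm_num)) (key 1 (by norm_num) 1 (by norm_num))
    rwa [← map_mul, conj_mul, ← vv_xor, show _ ^^^ _ = 1024 by decide +kernel, ← e'] at this

theorem cenD {c : ℕ} (hc : c < 2048) (h : rtV c = 17) {g : J} (e : g * vv c = vv c * g) : g ∈ MM := by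
  obtain ⟨m, f⟩ := exists_act (c := 555) (by norm_num) hc (h.symm ▸ by decide +kernel)
  have := Γ1.cen_w H1 M1 (mem_centralizer_singleton_iff.2 (show (Λ1 m)⁻¹ * g * Λ1 m * vv 555 = vv 555 * _ by
    rw [← f] at e
    calc _ = (Λ1 m)⁻¹ * (g * (Λ1 m * vv 555 * (Λ1 m)⁻¹)) * Λ1 m := by group
      _ = _ := by rw [e]; group))
  simpa [mul_assoc] using mul_mem (mul_mem (Λ_mem m) this) (inv_mem (Λ_mem m))

theorem max_cen {c : ℕ} (hc : c < 2048) (h : rtV c = 1024) : IsCoatom (centralizer {vv c}) := by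
  obtain ⟨m, f⟩ := exists_rt hc
  have := coatom_conj modJ.max_H (Λ1 m)
  convert this using 1
  ext g
  rw [mem_conj, ← f, h, vv_z, mem_centralizer_singleton_iff]
  refine Iff.trans ?_ modJ.mem_H.symm
  change _ ↔ _ * L1.z = L1.z * _
  rw [← mul_right_inj (Λ1 m)⁻¹, ← mul_left_inj (Λ1 m)]
  simp [mul_assoc]

theorem max_M : IsCoatom MM := modJ.max_M

theorem duad_chk : allBig 2048 (fun c => bor (!Nat.beq (rtV c) 17)
    (anyLt 24 fun i => anyLt i fun j => Nat.beq (Nat.xor (ll i) (ll j)) c)) = true := by decide +kernel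
theorem duad_of {c : ℕ} (hc : c < 2048) (h : rtV c = 17) : ∃ i < 24, ∃ j < i, c = ll i ^^^ ll j := by
  rcases bor_eq_true.1 (allBig_iff.1 duad_chk c hc) with e | e
  · exact absurd h (ne_of_not_beq e)
  · simp only [anyLt_iff, beq_iff] at e
    obtain ⟨i, hi, j, hj, e⟩ := e
    exact ⟨i, hi, j, hj, e.symm⟩
theorem rt_duad : ∀ i < 24, ∀ j < 24, i ≠ j → rtV (ll i ^^^ ll j) = 17 := by decide +kernel
theorem lin_duad {i j : ℕ} (hi : i < 24) (hj : j < 24) : lin (2 ^ i ^^^ 2 ^ j) = ll i ^^^ ll j := by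
  rw [lin_xor, lin_pow i hi, lin_pow j hj]
theorem duad_lt {i j : ℕ} (hi : i < 24) (hj : j < 24) : 2 ^ i ^^^ 2 ^ j < 2 ^ 24 :=
  Nat.xor_lt_two_pow (Nat.pow_lt_pow_right one_lt_two hi) (Nat.pow_lt_pow_right one_lt_two hj)
theorem duad_ev {i j : ℕ} (hi : i < 24) (hj : j < 24) : pc (2 ^ i ^^^ 2 ^ j) % 2 = 0 := by
  rw [pc_xor, pc_pow i hi, pc_pow j hj]
theorem pc_duad : ∀ i < 24, ∀ j < i, pc (2 ^ i ^^^ 2 ^ j) = 2 := by decide +kernel

/-- the centralisers of two duads generate `M` -/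
theorem two_duads {c d : ℕ} (hc : c < 2048) (hd : d < 2048) (a : rtV c = 17) (b : rtV d = 17) (n : c ≠ d) {Y : Subgroup J}
    (h : centralizer {vv c} ≤ Y) (h' : centralizer {vv d} ≤ Y) : MM ≤ Y := by
  obtain ⟨i, hi, j, hj, rfl⟩ := duad_of hc a
  obtain ⟨k, hk, l, hl, rfl⟩ := duad_of hd b
  have key : ∀ i < 24, ∀ j < i, centralizer {vv (ll i ^^^ ll j)} ≤ Y →
      MulAction.stabilizer M24 (Golay.G.toF (2 ^ i ^^^ 2 ^ j)) ≤ Y.comap Λ1 := fun i hi j hj h m hm => by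
    obtain ⟨c, hc⟩ := exists_R m
    refine h (mem_centralizer_singleton_iff.2 (mul_inv_eq_iff_eq_mul.1 ?_))
    rw [← lin_duad hi (by omega), Λact hc (lin_lt _), act_lin hc (duad_lt hi (by omega)) (duad_ev hi (by omega)),
      (hc.mem_stab_set (duad_lt hi (by omega))).1 hm]
  have mx := fun i (hi : i < 24) j (hj : j < i) => Cfsg.Agent.S1563.result (Golay.G.toF (2 ^ i ^^^ 2 ^ j))
    ((Golay.card_toF (duad_lt hi (by omega))).trans (pc_duad i hi j hj))
  have h1 : Y.comap Λ1 = ⊤ := by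
    by_contra e
    have e1 := ((mx i hi j hj).le_iff.1 (key i hi j hj h)).resolve_left e
    have e2 := ((mx k hk l hl).le_iff.1 (key k hk l hl h')).resolve_left e
    have := FQM (a := vv (ll k ^^^ ll l)) hc (rt_ne (by omega)) fun g hg f => .inl (by
      obtain ⟨m, c, u, r, hu, rfl, -⟩ := Mact hg
      have : m ∈ Y.comap Λ1 := (mul_mem_cancel_right (h (mem_centralizer_singleton_iff.2 (vv_comm _ _)))).1
        (h (mem_centralizer_singleton_iff.2 f))
      rw [e2, r.mem_stab_set (duad_lt hk (by omega))] at this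
      rw [mul_assoc (Λ1 m), vv_comm, mul_inv_rev, ← mul_assoc, ← mul_assoc, mul_inv_cancel_right, ← lin_duad hk (by omega),
        Λact r (lin_lt _), act_lin r (duad_lt hk (by omega)) (duad_ev hk (by omega)), this, mul_inv_cancel])
    exact this.elim (vv_ne hd (rt_ne (by omega))) fun f => n (vv_inj hd hc f).symm
  intro g hg
  obtain ⟨m, u, hu, rfl⟩ := Mdec hg
  exact mul_mem (h1.ge (mem_top m)) (h (mem_centralizer_singleton_iff.2 (vv_comm _ _)))

end Cfsg.Lib.SWJ
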