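import Cfsg.Agent.Lib.SW.JA
import Cfsg.Agent.Lib.Inv.FourGroup

/-! # Counting in `V`, linear maps preserving the duads, subgroups normalised by centralisers -/

set_option autoImplicit false
set_option maxRecDepth 100000

namespace Cfsg.Lib.SWJ

open Cfsg.Lib.Calc Cfsg.Lib.F2 Cfsg.Lib.Mathieu Cfsg.Lib.Big Cfsg.Lib.J4 Cfsg.Lib.J4T Subgroup Cfsg.Lib.Transfer
open Cfsg.Lib.Golay (pc isCW cntB cntB_eq)
open Cfsg.Lib.J4T.Md (rtV)
open scoped Pointwise

theorem sum_rt (F : ℕ → ℕ) : ∑ c ∈ Finset.range 2048, F (rtV c) = F 0 + 276 * F 17 + 1771 * F 1024 := by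
  have h : ∀ u n, cntB 2048 (fun c => Nat.beq (rtV c) u) = n → ∑ c ∈ Finset.range 2048, (if rtV c = u then F u else 0) = n * F u :=
    fun u n e => by
      rw [← Finset.sum_filter, Finset.sum_const, smul_eq_mul, ← e, cntB_eq]
      simp only [beq_iff]
  rw [← h 17 276 (by decide +kernel), ← h 1024 1771 (by decide +kernel), ← one_mul (F 0), ← h 0 1 (by decide +kernel),
    ← Finset.sum_add_distrib, ← Finset.sum_add_distrib]
  exact Finset.sum_congr rfl fun c _ => by rcases Md.rtV_cases c with e | e | e <;> simp [e]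

theorem ncard_eq_sum {α β : Type*} {s : Finset β} {f : β → α} (hf : Set.InjOn f s) (P : β → Prop) [DecidablePred P] :
    {x | ∃ c ∈ s, P c ∧ x = f c}.ncard = ∑ c ∈ s, if P c then 1 else 0 := by
  rw [← Finset.card_filter, ← Set.ncard_coe_finset, ← (hf.mono (Finset.coe_subset.2 (Finset.filter_subset P s))).ncard_image]
  congr 1
  ext x
  simp [and_assoc, eq_comm]

theorem not_dvd_cl {G : Type*} [Group G] [Finite G] {Y N : Subgroup G} {n p : ℕ} (hp : p.Prime) (hY : Nat.card Y = 2 ^ n)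
    (hN : N ≤ normalizer (Y : Set G)) {y : G} (hy : y ∈ Y) (h : ∀ k < n, 2 ^ n % p ≠ 2 ^ k % p) : ¬p ∣ (Grp.cl N y).ncard := by
  have := Fact.mk hp
  obtain ⟨P, -, h1, h2, h3⟩ := exists_sylowIn_ge (p := p) IsPGroup.of_bot (bot_le : ⊥ ≤ N)
  obtain ⟨k, hk, e⟩ := (Nat.dvd_prime_pow Nat.prime_two).1 (hY ▸ card_dvd_of_le (inf_le_left : Y ⊓ centralizer (P : Set G) ≤ Y))
  have h4 := card_modEq_card_inf_centralizer h2 (h1.trans hN)
  rw [e, hY] at h4
  have h5 := eq_of_le_of_card_ge (inf_le_left : Y ⊓ centralizer (P : Set G) ≤ Y)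
    (by rw [e, hY, hk.eq_or_lt.resolve_right fun l => h k l h4])
  have h6 : P ≤ N ⊓ centralizer {y} := le_inf h1 fun g hg => mem_centralizer_singleton_iff.2 ((h5.ge hy).2 g hg)
  have h7 := Grp.ncard_cl_mul N y
  rw [← card_mul_relIndex h6, ← card_mul_relIndex h1, mul_left_comm] at h7
  exact fun d => h3 (Nat.eq_of_mul_eq_mul_left Nat.card_pos h7 ▸ d.mul_right _)

theorem rt_of_cls {c : ℕ} (hc : c < 2048) (h : (870 : ℕ).testBit (cls c) = true) : rtV c = 1024 :=
  (rt_eq (by norm_num) hc (vv_z ▸ (L1.conj_iff H1 hc).2 h)).symm.trans (by decide +kernel)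

theorem exists_lin : ∀ v < 2048, ∃ m < 2 ^ 24, pc m % 2 = 0 ∧ lin m = v :=
  bit_ind (n := 11) ⟨0, by norm_num, by decide, lin_zero⟩
    (fun _ _ _ _ ⟨m, a, b, c⟩ ⟨n, d, e, f⟩ => ⟨m ^^^ n, Nat.xor_lt_two_pow a d, by rw [pc_xor]; omega, by rw [lin_xor, c, f]⟩)
    fun i hi => ⟨F2.nth 0 MK i, by revert i; decide +kernel⟩

/-- a linear map preserving the duads comes from the Mathieu group -/
theorem exists_m {f : ℕ → ℕ} (hx : ∀ c < 2048, ∀ d < 2048, f (c ^^^ d) = f c ^^^ f d) (hl : ∀ c < 2048, f c < 2048)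
    (hd : ∀ c < 2048, rtV c = 17 → rtV (f c) = 17) : ∃ m c, R m c ∧ ∀ v < 2048, f v = act c v := by
  have f0 : f 0 = 0 := by simpa using hx 0 (by norm_num) 0 (by norm_num)
  have key : ∀ i < 24, ∀ j < 24, i ≠ j → rtV (f (ll i) ^^^ f (ll j)) = 17 := fun i hi j hj h =>
    hx _ (ll_lt i) _ (ll_lt j) ▸ hd _ (xlt (ll_lt i) (ll_lt j)) (rt_duad i hi j hj h)
  have h0 : ∀ i, ∃ a b, i < 23 → a < 24 ∧ b < a ∧ f (ll i) = ll a ^^^ ll b := fun i => by
    by_cases hi : i < 23
    · obtain ⟨a, ha, b, hb, e⟩ := duad_of (hl _ (ll_lt i)) (by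
        simpa [show ll 23 = 0 by decide, f0] using key i (by omega) 23 (by norm_num) (by omega))
      exact ⟨a, b, fun _ => ⟨ha, hb, e⟩⟩
    · exact ⟨0, 0, fun h => absurd h hi⟩
  choose a b h0 using h0
  have h1 : ∀ i < 23, ∀ j < 23, i ≠ j → ¬(a i = a j ∧ b i = b j) ∧ ((a i = a j ∨ a i = b j) ∨ (b i = a j ∨ b i = b j)) := by
    intro i hi j hj h
    have := key i (by omega) j (by omega) h
    rw [(h0 i hi).2.2, (h0 j hj).2.2] at this
    refine ⟨fun e => rt_ne (by omega) (by rw [e.1, e.2, Nat.xor_self] : ll (a i) ^^^ ll (b i) ^^^ (ll (a j) ^^^ ll (b j)) = 0), ?_⟩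
    exact (((duad_spec (h0 i hi).1 (h0 i hi).2.1).2 _ (h0 j hj).1 _ (h0 j hj).2.1).2).imp_right fun e => e.resolve_right fun e => by
      have := rt_of_cls (xlt (xlt (ll_lt _) (ll_lt _)) (xlt (ll_lt _) (ll_lt _))) e
      omega
  obtain ⟨p, hp⟩ := star (fun i hi => (h0 i hi).2.1) h1
  obtain ⟨g, hf⟩ : ∃ g : ℕ → ℕ, ∀ i, g i = if i < 23 then a i + b i - p else p := ⟨_, fun _ => rfl⟩
  have h2 : ∀ i < 24, g i < 24 ∧ f (ll i) = ll (g i) ^^^ ll p := fun i hi => by
    have := h0 0 (by norm_num)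
    have := hp 0 (by norm_num)
    rw [hf]
    split_ifs with h
    · have := h0 i h
      rcases hp i h with e | e
      · rw [← e, Nat.add_sub_cancel_left, Nat.xor_comm]; exact ⟨by omega, this.2.2⟩
      · rw [← e, Nat.add_sub_cancel]; exact ⟨this.1, this.2.2⟩
    · obtain rfl : i = 23 := by omega
      exact ⟨by omega, by rw [Nat.xor_self, show ll 23 = 0 by decide, f0]⟩
  have h3 : Function.Injective fun x => Golay.G.pt (g (Golay.G.idx x)) := fun x y e => Golay.G.idx_inj (by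
    have hx := Golay.G.idx_lt x
    have hy := Golay.G.idx_lt y
    have e := inj_pt _ (h2 _ hx).1 _ (h2 _ hy).1 e
    generalize Golay.G.idx x = i at *
    generalize Golay.G.idx y = j at *
    rw [Golay.G_n] at hx hy
    rw [hf, hf] at e
    by_contra h
    have := h0 i
    have := h0 j
    have := hp i
    have := hp j
    have := h1 i
    split_ifs at e with u v v
    · have := h1 i u j v h; omega
    all_goals omega)
  obtain ⟨c, hc⟩ := exists_Rp (Equiv.ofBijective _ (Finite.injective_iff_bijective.1 h3))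
  have h4 : ∀ m < 2 ^ 24, f (lin m) = lin (img c m) ^^^ ll p * (pc m % 2) := by
    refine bit_ind (by simp [lin_zero, f0, show img c 0 = 0 by simpa using img_xor hc 0 0, show pc 0 = 0 by decide])
      (fun a _ b _ x y => ?_) fun i hi => ?_
    · rw [lin_xor, hx _ (lin_lt _) _ (lin_lt _), x, y, img_xor hc, lin_xor, pc_xor]
      rcases Nat.mod_two_eq_zero_or_one (pc a) with u | u <;> rcases Nat.mod_two_eq_zero_or_one (pc b) with v | v <;>
        simp [Nat.add_mod, u, v, Nat.xor_assoc, Nat.xor_left_comm (ll p), Nat.xor_comm (ll p)]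
    · have := hc.apply hi
      rw [Equiv.ofBijective_apply, Golay.G.idx_pt _ hi] at this
      rw [img_pow hc hi, lin_pow i hi, lin_pow _ (hc.lt hi), (h2 i hi).2, pc_pow i hi,
        inj_pt _ (h2 i hi).1 _ (hc.lt hi) this, Nat.one_mod, mul_one]
  suffices k : _ ∈ M24 by
    refine ⟨⟨_, k⟩, c, hc, fun v hv => ?_⟩
    obtain ⟨m, x, y, rfl⟩ := exists_lin v hv
    rw [h4 m x, y, mul_zero, Nat.xor_zero]
    exact (act_lin (g := ⟨_, k⟩) hc x y).symm
  refine Golay.mem_M24_of_inM24 hc.2 (Golay.allL_iff.2 fun b hb => ?_)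
  · obtain ⟨u, v, w⟩ := (by decide +kernel : ∀ b ∈ Golay.basisL, b < 2 ^ 24 ∧ pc b % 2 = 0 ∧ lin b = 0) b hb
    have := h4 b u
    rw [w, v, f0, mul_zero, Nat.xor_zero] at this
    exact (isCW_iff (hc.img_lt b)).2 ⟨pc_img hc u ▸ v, this.symm⟩

theorem nrm_of {G : Type*} [Group G] {I : Subgroup G} {g x : G} (h : g ∈ normalizer (I : Set G)) (hx : x ∈ I) : g * x * g⁻¹ ∈ I :=
  (mem_normalizer_iff.1 h x).1 hx

theorem small0 {I : Subgroup J} (hI : I ≠ ⊤) {u : ℕ} (hu : u < 2048) (h0 : u ≠ 0) (hj : centralizer {vv u} ≤ normalizer (I : Set J))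
    (h : ∀ i ∈ I, i * i = 1 → i ≠ 1 → centralizer {i} ≤ normalizer (I : Set J)) {y : J} (hy : y ∈ I) : y = 1 ∨ y = vv u := by
  by_cases hb : I = ⊥
  · exact .inl (mem_bot.1 (hb.le hy))
  have hN : normalizer (I : Set J) ≠ ⊤ := fun e => ((normalizer_eq_top_iff.1 e).eq_bot_or_eq_top.elim hb hI)
  have hV : VV ≤ normalizer (I : Set J) := fun x hx => hj (mem_centralizer_singleton_iff.2 (V_comm hx (vv_mem hu)))
  have h1 : ∀ c < 2048, ∀ d < 2048, vv c ∈ I → vv d ∈ I → c ≠ 0 → d ≠ 0 → rtV c = 1024 → c = d := fun c hc d hd a b x y e => by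
    have := ((max_cen hc e).le_iff.1 (h _ a (vv_sq c) (vv_ne hc x))).resolve_left hN
    exact vv_inj hc hd ((FQ (vv_sq d) (vv_ne hd y) fun g hg => .inl (by
      rw [mem_centralizer_singleton_iff.1 (this.le (h _ b (vv_sq d) (vv_ne hd y) (mem_centralizer_singleton_iff.2 hg)))]
      group)).resolve_left (vv_ne hc x))
  have h2 : ∀ c < 2048, ∀ d < 2048, vv c ∈ I → vv d ∈ I → c ≠ 0 → d ≠ 0 → c = d := fun c hc d hd a b x y => by
    by_contra n
    have e := (rt_cases hc x).resolve_right fun e => n (h1 c hc d hd a b x y e)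
    have hM := two_duads hc hd e ((rt_cases hd y).resolve_right fun e => n (h1 d hd c hc b a y x e).symm) n
      (h _ a (vv_sq c) (vv_ne hc x)) (h _ b (vv_sq d) (vv_ne hd y))
    have k : ∀ w < 2048, rtV w = 17 → vv w ∈ I := fun w hw f =>
      let ⟨m, l⟩ := exists_act hc hw (e.trans f.symm); l ▸ nrm_of (hM (Λ_mem m)) a
    exact absurd (h1 (17 ^^^ 555) (by decide) 17 (by norm_num) (vv_xor _ _ ▸ mul_mem (k 17 (by norm_num) (by decide +kernel))
      (k 555 (by norm_num) (by decide +kernel))) (k 17 (by norm_num) (by decide +kernel)) (by decide) (by decide)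
      (by decide +kernel)) (by decide)
  have h3 : ∀ x ∈ I, x ∈ VV → x = 1 ∨ x = vv u := fun x hx hv => by
    obtain ⟨c, hc, rfl⟩ := mem_V.1 hv
    refine FQM hu h0 fun g hg e => .inl ?_
    obtain ⟨d, hd, f⟩ := mem_V.1 (conj_V hg hv)
    by_cases x : c = 0
    · simp [x, vv_zero]
    rw [f, h2 d hd c hc (f ▸ nrm_of (hj (mem_centralizer_singleton_iff.2 e)) hx) hx
      (fun k => vv_ne hc x (by simpa [k, vv_zero] using f)) x, mul_inv_cancel]
  obtain ⟨S, s1, s2, s3, s4⟩ := exists_sylowIn_ge pg_V (le_sup_right : VV ≤ I ⊔ VV)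
  have s5 : ¬2 ∣ (S ⊓ I).relIndex I := by
    rw [inf_relIndex_right]; exact not_dvd_relIndex_of_le_normalizer s4 le_sup_left (sup_le le_normalizer hV)
  have h4 : ∀ x ∈ I, x ∈ MM → x ∈ VV := fun x hx hm => trans (u := vv u) hm fun v hv => h3 _ (by
    have := mul_mem hx (nrm_of (hV hv) (inv_mem hx))
    rwa [inv_eq_of_mul_eq_one_right (V_sq hv), ← mul_assoc, ← mul_assoc] at this) (mul_mem (conj_V hm hv) hv)
  have h5 : ∀ x ∈ S ⊓ I, x = 1 ∨ x = vv u := fun x hx => h3 x hx.2 (h4 x hx.2 (two_le_M s3 s1 hx.1))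
  have h6 := hasNormalPComplement_subgroup_iff_mul.1 (hasNormalPComplement_subgroup_of_normalizer_le (s3.to_le inf_le_left) s5
    inf_le_right fun g hg x hx => by
      rcases h5 x hx with rfl | e
      · simp
      · exact (mul_inv_eq_iff_eq_mul.1 (((h5 _ (nrm_of hg.2 hx)).resolve_left fun f =>
          vv_ne hu h0 (e ▸ conj_eq_one_iff.1 f)).trans e.symm)).symm)
  let O : Subgroup J := fsub {x | x ∈ I ∧ (orderOf x).Coprime 2} ⟨one_mem _, by simp⟩
    fun a ha b hb => ⟨mul_mem ha.1 hb.1, h6 a ha.1 b hb.1 ha.2 hb.2⟩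
  have k4 := Inv.k4_sup (x := vv 17) (y := vv 289) (orderOf_eq_prime ((sq _).trans (vv_sq _)) (vv_ne (by norm_num) (by norm_num)))
    (orderOf_eq_prime ((sq _).trans (vv_sq _)) (vv_ne (by norm_num) (by norm_num)))
    (fun e => absurd (vv_inj (by norm_num) (by norm_num) e) (by norm_num)) (vv_comm _ _)
  have h7 : O ≤ MM := Coprime.le_of_forall_centralizer_le (A := zpowers (vv 17) ⊔ zpowers (vv 289))
    ⟨⟨fun a b => Subtype.ext (Inv.k4_comm k4 a.2 b.2)⟩⟩ IsKleinFour.not_isCyclic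
    (fun g hg => mem_normalizer_fintype fun x hx => ⟨nrm_of (hV ((sup_le (zpowers_le.2 (vv_mem (by norm_num)))
      (zpowers_le.2 (vv_mem (by norm_num)))) hg)) hx.1, orderOf_conj' g x ▸ hx.2⟩)
    (by rw [k4.card_four]; exact (((subgroup_card_coprime_iff (H := O)).2 fun g hg => hg.2).pow_right 2).symm) fun a ha n g hg => by
      rw [Inv.k4_mem_iff k4 (mem_sup_left (mem_zpowers _)) (mem_sup_right (mem_zpowers _)) (vv_ne (by norm_num) (by norm_num))
        (vv_ne (by norm_num) (by norm_num)) fun e => absurd (vv_inj (by norm_num) (by norm_num) e) (by norm_num), ← vv_xor] at ha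
      rcases ha with rfl | rfl | rfl | rfl
      · exact absurd rfl n
      all_goals exact cenD (by decide) (by decide +kernel) (mem_centralizer_singleton_iff.1 hg.2)
  refine h5 y ((eq_of_not_dvd_relIndex_of_le s5 (fun y => ?_) le_rfl inf_le_right).ge hy)
  obtain ⟨a, ha, b, hb, ⟨k, e⟩, o, f⟩ := exists_p_part_mul_p'_part (p := 2) y
  obtain rfl := eq_one_of_pow_pow_eq_one_of_coprime (k := 1) (Subtype.ext ((sq b.1).trans
    (V_sq (h4 b b.2 (h7 ⟨b.2, by rwa [orderOf_coe]⟩))))) o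
  exact ⟨k, by rw [f, mul_one, e]⟩

/-- a proper subgroup normalised by the centraliser of `j` and by the centralisers of its involutions -/
theorem small {I : Subgroup J} (hI : I ≠ ⊤) {j : J} (h2 : j * j = 1) (h1 : j ≠ 1) (hj : centralizer {j} ≤ normalizer (I : Set J))
    (h : ∀ i ∈ I, i * i = 1 → i ≠ 1 → centralizer {i} ≤ normalizer (I : Set J)) {y : J} (hy : y ∈ I) : y = 1 ∨ y = j := by
  obtain ⟨k, u, hu, e⟩ := toV h2
  have key : ∀ i, centralizer {i} ≤ normalizer (I : Set J) → centralizer {k * i * k⁻¹} ≤ normalizer ((k ⋆ I : Subgroup J) : Set J) :=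
    fun i h g hg => by
      rw [← conj_normalizer, mem_conj]
      refine h (mem_centralizer_singleton_iff.2 ?_)
      simpa [mul_assoc] using congrArg (fun t => k⁻¹ * t * k) (mem_centralizer_singleton_iff.1 hg)
  refine (small0 (I := k ⋆ I) (fun f => hI (conj_inj.1 (f.trans (conj_top k).symm))) hu
    (fun f => h1 (by simpa [f, vv_zero] using e)) (e ▸ key j hj) (fun i a b c => ?_) (conj_mem_conj.2 hy)).imp
    (fun f => by simpa using f) fun f => by simpa [← e] using f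
  have := key _ (h _ (mem_conj.1 a) (by simpa [mul_assoc] using congrArg (fun t => k⁻¹ * t * k) b)
    fun f => c (by simpa [mul_assoc] using congrArg (fun t => k * t * k⁻¹) f))
  simpa [mul_assoc] using this

end Cfsg.Lib.SWJ
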