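import Cfsg.Agent.Lib.SW.W

/-! # The equivariant section over `V` -/

set_option autoImplicit false
set_option maxRecDepth 100000

namespace Cfsg.Lib.SWJ

open Cfsg.Lib.Calc Cfsg.Lib.F2 Cfsg.Lib.Mathieu Cfsg.Lib.J4T Subgroup Cfsg.Lib.Transfer
open Cfsg.Lib.J4T.Md (rtV)
open Cfsg.Lib.Golay (pc isCW cw)
open scoped Pointwise IsMulCommutative

local notation "pt" => Golay.G.pt
local notation "toF" => Golay.G.toF

theorem tetra {X ι : Type*} [AddCommGroup X] (Y : ι → ι → X) {a b c d e : ι}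
    (T : ∀ p q r, [p, q, r].Nodup → Y p q + Y q r + Y r p = 0) (h4 : ∀ x : X, 4 • x = 0) (n : [a, b, c, d, e].Nodup) :
    Y a b + Y b a = 0 := by
  have B : ∀ w p q r, [w, p, q, r].Nodup → Y w p + Y p w + (Y w q + Y q w) + (Y w r + Y r w) = 0 := fun w p q r n => by
    simp only [List.nodup_cons, List.mem_cons, List.not_mem_nil, or_false, not_or] at n
    obtain ⟨⟨n1, n2, n3⟩, ⟨n4, n5⟩, n6, -⟩ := n
    linear_combination (norm := abel1) T p r w (by simp [*, Ne.symm n1, Ne.symm n3]) + T p w q (by simp [*, Ne.symm n1]) +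
      T q w r (by simp [*, Ne.symm n2]) - T p r q (by simp [*, Ne.symm n6])
  simp only [List.nodup_cons, List.mem_cons, List.not_mem_nil, or_false, not_or] at n
  linear_combination (norm := abel1) h4 (Y a b + Y b a) - B a b c d (by simp [*]) - B a b c e (by simp [*]) - B a b d e (by simp [*]) +
    2 • B a c d e (by simp [*])

/-- a section of `V` in `C(V) ∩ N(B)` -/
structure Th {G : Type*} [Group G] (S : Cs G) (θ : ℕ → G) : Prop where
  xor : ∀ c < 2048, ∀ d < 2048, θ (c ^^^ d) = θ c * θ d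
  ov : ∀ c < 2048, S.Ov (θ c) c
  equi : ∀ m c, R m c → ∀ v < 2048, S.ψ (Λ1 m) * θ v * (S.ψ (Λ1 m))⁻¹ = θ (act c v)

section Abs

variable {X : Type*} [CommGroup X] {σ : M24 →* MulAut X} {O : X → ℕ → Prop}

/-- the module `X`, an extension of `V` by `V` -/
structure Ext (σ : M24 →* MulAut X) (O : X → ℕ → Prop) : Prop where
  one : O 1 0
  mul : ∀ {x y u w}, O x u → O y w → O (x * y) (u ^^^ w)
  act : ∀ {x u m c}, O x u → R m c → O (σ m x) (act c u)
  fix : ∀ {x m n c d}, O x 0 → R m c → R n d → σ m x = x → σ n x = x →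
    allBig 2048 (fun v => bor (Nat.beq v 0) (bor (!Nat.beq (SWJ.act c v) v) (!Nat.beq (SWJ.act d v) v))) = true → x = 1
  four : ∀ x : X, x ^ 4 = 1
  sq : ∀ {x u}, O x u → u ≠ 0 → x * x = 1 → ∀ x : X, x * x = 1

theorem Ext.ex (h : Ext σ O) {y : X} (hy : O y 289) (h22 : ∀ m ∈ m22, σ m y = y) :
    ∃ θ : ℕ → X, (∀ c < 2048, ∀ d < 2048, θ (c ^^^ d) = θ c * θ d) ∧ (∀ c < 2048, O (θ c) c) ∧
      ∀ m c, R m c → ∀ v < 2048, σ m (θ v) = θ (SWJ.act c v) := by
  classical
  obtain ⟨Y, hY⟩ : ∃ Y : GolayPt → GolayPt → X, ∀ g : M24, σ g y = Y ((g : P24) (pt 0)) ((g : P24) (pt 23)) := by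
    refine ⟨fun p q => if k : ∃ g : M24, (g : P24) (pt 0) = p ∧ (g : P24) (pt 23) = q then σ k.choose y else 1, fun g => ?_⟩
    have k : ∃ g' : M24, (g' : P24) (pt 0) = (g : P24) (pt 0) ∧ (g' : P24) (pt 23) = (g : P24) (pt 23) := ⟨g, rfl, rfl⟩
    simp only [dif_pos k]
    conv_lhs => rw [← mul_inv_cancel_left k.choose g, map_mul, MulAut.mul_apply, h22 (k.choose⁻¹ * g)
      ⟨(Equiv.symm_apply_eq _).2 k.choose_spec.2.symm, (Equiv.symm_apply_eq _).2 k.choose_spec.1.symm⟩]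
  have ex : ∀ {p q}, p ≠ q → ∃ g : M24, (g : P24) (pt 0) = p ∧ (g : P24) (pt 23) = q := fun n =>
    exists_map2 (by decide) (by simpa using n)
  have h1 : ∀ (g : M24) {p q}, p ≠ q → σ g (Y p q) = Y ((g : P24) p) ((g : P24) q) := fun g p q n => by
    obtain ⟨k, rfl, rfl⟩ := ex n
    rw [← hY, ← MulAut.mul_apply, ← map_mul, hY]; rfl
  have h2 : ∀ i < 24, ∀ j < 24, i ≠ j → O (Y (pt i) (pt j)) (ll i ^^^ ll j) := fun i hi j hj n => by
    obtain ⟨k, a, b⟩ := ex fun e => n (inj_pt i hi j hj e)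
    obtain ⟨c, r⟩ := exists_R k
    have := h.act hy r
    rwa [hY, a, b, show 289 = lin (2 ^ 0 ^^^ 2 ^ 23) by decide +kernel, act_lin r (by decide) (by decide), img_xor r,
      img_pow r (by norm_num), img_pow r (by norm_num), lin_duad (r.lt (by norm_num)) (r.lt (by norm_num)),
      inj_pt _ (r.lt (by norm_num)) _ hi ((Rp.apply r (by norm_num)).symm.trans a),
      inj_pt _ (r.lt (by norm_num)) _ hj ((Rp.apply r (by norm_num)).symm.trans b)] at this
  have T : ∀ p q r, [p, q, r].Nodup → Y p q * Y q r * Y r p = 1 := fun p q r n => by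
    obtain ⟨g, rfl, rfl, rfl⟩ := exists_map3 (a := pt 0) (b := pt 6) (c := pt 8) (by decide) n
    have r : R (Mathieu.mk 769984977447469943830760259937743174) 769984977447469943830760259937743174 := mk_rep (by decide +kernel)
    have k : σ (Mathieu.mk 769984977447469943830760259937743174) (Y (pt 0) (pt 6) * Y (pt 6) (pt 8) * Y (pt 8) (pt 0)) =
        Y (pt 0) (pt 6) * Y (pt 6) (pt 8) * Y (pt 8) (pt 0) := by
      rw [map_mul, map_mul, h1 _ (by decide), h1 _ (by decide), h1 _ (by decide), Rp.apply r (by norm_num), Rp.apply r (by norm_num),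
        Rp.apply r (by norm_num), mul_comm, ← mul_assoc]
      rfl
    rw [← h1 _ (by decide), ← h1 _ (by decide), ← h1 _ (by decide), ← map_mul, ← map_mul, h.fix
      (h.mul (h.mul (h2 0 (by norm_num) 6 (by norm_num) (by norm_num)) (h2 6 (by norm_num) 8 (by norm_num) (by norm_num)))
        (h2 8 (by norm_num) 0 (by norm_num) (by norm_num)) :) r r k k (by decide +kernel), map_one]
  have h3 : ∀ {p q}, p ≠ q → Y p q * Y q p = 1 := fun n => by
    obtain ⟨g, rfl, rfl⟩ := ex n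
    rw [← h1 _ (by decide), ← h1 _ (by decide), ← map_mul, show Y (pt 0) (pt 23) * Y (pt 23) (pt 0) = 1 from
      tetra (X := Additive X) Y (c := pt 1) (d := pt 2) (e := pt 3) T h.four (by decide), map_one]
  obtain ⟨u, hu⟩ : ∃ u : GolayPt → X, ∀ p, u p = if p = pt 23 then 1 else Y p (pt 23) := ⟨_, fun _ => rfl⟩
  have h4 : ∀ {p q}, p ≠ q → Y p q = u p * (u q)⁻¹ := fun {p q} n => by
    rw [hu, hu]
    split_ifs with a b b
    · exact absurd (a.trans b.symm) n
    · rw [a, one_mul, eq_inv_of_mul_eq_one_left (h3 (Ne.symm b))]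
    · rw [b, inv_one, mul_one]
    · rw [eq_mul_inv_iff_mul_eq, eq_inv_of_mul_eq_one_left (T p q (pt 23) (by simp [*])), eq_inv_of_mul_eq_one_left (h3 a)]
  have h5 : ∀ (g : M24) p, σ g (u p) = u ((g : P24) p) * (u ((g : P24) (pt 23)))⁻¹ := fun g p => by
    by_cases a : p = pt 23
    · rw [hu p, if_pos a, a, map_one, mul_inv_cancel]
    · rw [hu p, if_neg a, h1 _ a, h4 ((g : P24).injective.ne a)]
  obtain ⟨P, hP⟩ : ∃ P : ℕ → X, ∀ m, P m = ∏ p ∈ toF m, u p := ⟨_, fun _ => rfl⟩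
  have h6 : ∀ {g c} (m), R g c → σ g (P m) = P (img c m) * (u ((g : P24) (pt 23)))⁻¹ ^ (toF m).card := fun {g c} m r => by
    rw [hP, hP, ← Rp.smul_toF r, Finset.smul_finset_def, Finset.prod_image fun _ _ _ _ e => MulAction.injective (g : P24) e, map_prod,
      ← Finset.prod_const, ← Finset.prod_mul_distrib]
    exact Finset.prod_congr rfl fun p _ => h5 g p
  have h7 : ∀ a b, P (a ^^^ b) * (P (a &&& b) * P (a &&& b)) = P a * P b := fun a b => by
    rw [hP, hP, hP, hP, show toF (a ^^^ b) = _ from Golay.G.toF_xor a b, show toF (a &&& b) = _ from Golay.G.toF_land a b,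
      ← Finset.prod_union_inter (s₁ := toF a), ← mul_assoc, ← show symmDiff (toF a) (toF b) ∪ toF a ∩ toF b = toF a ∪ toF b from
        symmDiff_sup_inf _ _, Finset.prod_union (disjoint_symmDiff_inf _ _)]
  have P0 : P 0 = 1 := by rw [hP, Golay.G.toF_zero, Finset.prod_empty]
  have h8 : ∀ m < 2 ^ 24, O (P m) (lin m) := J4T.Md.ind2 (P := fun m _ => O (P m) (lin m)) (by rw [P0, lin_zero]; exact h.one)
    fun i hi a ha _ ih => by
      have := h7 a (2 ^ i)
      rw [Nat.and_two_pow, Nat.testBit_lt_two_pow ha, Bool.toNat_false, zero_mul, P0, mul_one, mul_one] at this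
      rw [this, lin_xor, lin_pow i hi, hP (2 ^ i), Golay.G.toF_two_pow hi, Finset.prod_singleton, hu]
      refine h.mul ih ?_
      split_ifs with e
      · rw [inj_pt _ hi _ (by norm_num) e]; exact h.one
      · simpa [show ll 23 = 0 by decide] using h2 i hi 23 (by norm_num) fun f => e (f ▸ rfl)
  have h9 : ∀ {g c m}, R g c → toF m ∈ octads → σ g (P m) = P (img c m) := fun r o => by
    rw [h6 _ r, o.2, show 8 = 4 * 2 from rfl, pow_mul, h.four, one_pow, mul_one]
  have ha : ∀ m < 2 ^ 24, toF m ∈ octads → P m = 1 := fun m hm o => by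
    obtain ⟨g, e⟩ := exists_smul_octad oct0_mem o
    obtain ⟨c, r⟩ := exists_R g
    have r1 : R (Mathieu.mk 137941160079870066150743119773500421) _ := mk_rep (by decide +kernel)
    have r2 : R (Mathieu.mk 233185888625771606049829387393644641) _ := mk_rep (by decide +kernel)
    rw [← (Rp.smul_eq_iff' r hm).1 e, ← h9 r oct0_mem, h.fix (h8 8536111 (by norm_num)) r1 r2
      ((h9 r1 oct0_mem).trans (congrArg P (by decide +kernel))) ((h9 r2 oct0_mem).trans (congrArg P (by decide +kernel)))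
      (by decide +kernel), map_one]
  have hb := h.sq (h8 8388615 (by norm_num)) (by decide +kernel) (by
    have := h7 8536111 12656663
    rwa [ha _ (by decide) (Golay.mem_octads_of_isOct (by decide +kernel)), ha _ (by decide) oct0_mem,
      ha 12656663 (by decide) (Golay.mem_octads_of_isOct (by decide +kernel)), one_mul, one_mul] at this)
  have hc : ∀ a b, P (a ^^^ b) = P a * P b := fun a b => by rw [← h7, hb, mul_one]
  have hd : ∀ {a b}, a < 2 ^ 24 → b < 2 ^ 24 → pc a % 2 = 0 → pc b % 2 = 0 → lin a = lin b → P a = P b := fun {a b} p q r s e => by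
    have := (isCW_iff (Nat.xor_lt_two_pow p q)).2 ⟨by rw [pc_xor]; omega, by rw [lin_xor, e, Nat.xor_self]⟩
    have k : P (a ^^^ b) = 1 := by
      rw [Golay.eq_cw_of_isCW this, (Golay.cw_spec (Golay.land_4095_lt _)).1]
      exact Golay.encL_induction (P := fun m => P m = 1) P0 (fun a b p q => by rw [hc, p, q, one_mul]) _ (fun b hb =>
        let ⟨x, y⟩ := (by decide +kernel : ∀ b ∈ Golay.basisL, b < 2 ^ 24 ∧ Golay.isOct b = true) b hb
        ha b x (Golay.mem_octads_of_isOct y)) _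
    rw [hc] at k
    rw [eq_inv_of_mul_eq_one_left k, inv_eq_of_mul_eq_one_right (hb _)]
  choose! s s1 s2 s3 using exists_lin
  refine ⟨fun c => P (s c), fun c p d q => ?_, fun c p => by simpa only [s3 c p] using h8 _ (s1 c p), fun m c r v p => ?_⟩
  · rw [← hc]
    exact hd (s1 _ (xlt p q)) (Nat.xor_lt_two_pow (s1 c p) (s1 d q)) (s2 _ (xlt p q))
      (by rw [pc_xor]; have := s2 c p; have := s2 d q; omega) (by rw [lin_xor, s3 c p, s3 d q, s3 _ (xlt p q)])
  · rw [h6 _ r, Golay.card_toF (s1 v p), ← Nat.div_add_mod (pc _) 2, s2 v p, add_zero, pow_mul, (pow_two _).trans (hb _), one_pow, mul_one]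
    exact hd (Rp.img_lt r _) (s1 _ (act_lt _ _)) (pc_img r (s1 v p) ▸ s2 v p) (s2 _ (act_lt _ _))
      (by rw [← act_lin r (s1 v p) (s2 v p), s3 v p, s3 _ (act_lt _ _)])

end Abs

namespace Ct

variable {G : Type*} [Group G] [Finite G] {S : Ct G} {e : ℕ} {x y : G}

omit [Finite G] in
theorem IX.v (S : Ct G) (e c : ℕ) : S.IX e (S.v c) := ⟨0, S.ov_v c, fun _ _ => S.ne_t _ _, by rw [S.v_sq, S.v_zero, one_pow]⟩

theorem IX.mul (h : x * y = y * x) (a : S.IX e x) (b : S.IX e y) : S.IX e (x * y) := by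
  obtain ⟨u, a, n, p⟩ := a
  obtain ⟨w, b, n', q⟩ := b
  refine ⟨_, a.mul b, fun c hc f => ?_, by
    rw [mul_assoc, ← mul_assoc y, ← h, mul_assoc, ← mul_assoc, p, q, S.v_xor, Commute.mul_pow (S.v_comm u w)]⟩
  obtain rfl := Nat.xor_eq_zero_iff.1 ((a.mul b).uniq (f ▸ (S.ov_v c).mul0 S.ov_t))
  by_cases k : u = 0
  · subst k
    obtain ⟨i, hi, rfl | l⟩ := ov_zero a
    · obtain ⟨j, hj, rfl | l⟩ := ov_zero b
      exacts [S.ne_t _ _ ((S.v_xor i j).trans f), n' j hj l]
    · exact n i hi l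
  · obtain ⟨d, -, rfl⟩ := same a b k (p.trans q.symm)
    rw [← mul_assoc, p, Cs.v, Cs.v, ← map_pow, ← map_mul] at f
    exact S.ne_t _ _ f

omit [Finite G] in
theorem IX.conj (a : S.IX e x) {g : J} (hg : g ∈ MM) : S.IX e (S.ψ g * x * (S.ψ g)⁻¹) := by
  obtain ⟨u, a, n, p⟩ := a
  obtain ⟨w, hw, f⟩ := mem_V.1 (conj_V hg (vv_mem a.lt))
  refine ⟨w, a.conj hg hw f, fun c hc k => ?_, by rw [conj_mul, p, ← conj_pow, S.cj_v f]⟩
  obtain ⟨d, hd, l⟩ := mem_V.1 (conj_V (inv_mem hg) (vv_mem hc))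
  exact n d hd (by rw [cj_eq k, ← S.cj_vt l, map_inv, inv_inv])

theorem exists_IX (he : e < 2) {u : ℕ} (hu : u < 2048) (h : u ≠ 0) : ∃ x, S.Ov x u ∧ S.IX e x := by
  have k : ∀ {x}, S.Ov x u → ∀ c < 2048, x ≠ S.v c * S.t := fun a c _ f => h (a.uniq (f ▸ (S.ov_v c).mul0 S.ov_t))
  obtain ⟨x, a, p⟩ := exists_inv (S := S) hu h
  interval_cases e
  exacts [⟨x, a, u, a, k a, by rw [p, pow_zero]⟩,
    ⟨_, a.mul0 S.ov_t, u, a.mul0 S.ov_t, k (a.mul0 S.ov_t), by rw [a.sq_t, p, one_mul, pow_one]⟩]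

/-- generators of `M₂₂` -/
noncomputable def g22 : ℕ → ℕ := F2.nth 0 [961939482242303869494870604187687168, 984068708397462485055061723182407712]

/-- relators with the certificate -/
def r22 : List (List ℕ × ℕ) := [([0, 0, 0], 0x700025c0008c0000fc00096000000000000000000000000000000000),
  ([1, 1, 1], 0x60ad0c22b4040ad000000000000402b4000000000000000000000000800),
  ([0, 1, 0, 1, 0, 1, 0, 1, 0, 1, 0, 1, 0, 1], 0x2b4000bf00000000000000000000000000000000000000000000)]

theorem hg : ∀ i < 2, tOK (tAnd (tPt 23) (tPt 0)) (g22 i) = true ∧ act (g22 i) 289 = 289 ∧ img (g22 i) 1 = 1 ∧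
    powT (g22 i) 3 = id24 := by decide +kernel

theorem gen22 {N : Subgroup M24} (h : ∀ i < 2, Mathieu.mk (g22 i) ∈ N) : m22 ≤ N := by
  have k : 443520 ≤ Nat.card ↥(N ⊓ m22) := le_trans (by decide +kernel) (le_card_gen (by norm_num) (fun i hi =>
    ⟨_, mem_inf.2 ⟨h i hi, (mem22.mk_mem (hg i hi).1).1⟩, by
      interval_cases i <;> exact mk_rep (by decide +kernel)⟩) (by decide +kernel : genOK 24 5 [961939482242303869494870604187687168, 984068708397462485055061723182407712, 984068708397462485055061723182407712, 975392776824561928967724524396687392, 976728811570646295706273363006031904, 967857139963342044689680818369726496, 975728708050008715525885598301784096, 966320096358733541442380578386184224, 968621477650857569167789942210922528, 976531636853126291160407323722221600] [0, 0, 159754, 565180432, 2949484902929, 7061004638296874999836, 129271196847659027, 49425788276913169, 410613874591228945, 8297297672] 2 [(1, [0, 1], 22), (2, [2,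 3], 21), (3, [4, 5], 20), (4, [6, 7, 8], 16), (5, [9], 3)] = true))
  exact inf_eq_right.1 (eq_of_le_of_card_ge inf_le_right (card_m22.trans_le k))

theorem fix22 (a : S.Ov x 289) : ∃ c < 2048, ∀ m ∈ m22, S.ψ (Λ1 m) * (x * S.v c) = x * S.v c * S.ψ (Λ1 m) := by
  have r := fun i hi => (mem22.mk_mem (hg i hi).1).2
  have h1 : ∀ i, ∃ c < 2048, i < 2 → x⁻¹ * S.ψ (Λ1 (Mathieu.mk (g22 i))) * x = S.ψ (vv c * Λ1 (Mathieu.mk (g22 i))) := fun i => by
    by_cases hi : i < 2
    swap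
    · exact ⟨0, by norm_num, fun h => absurd h hi⟩
    obtain ⟨c, hc, f | f⟩ := ov_zero (a.div (a.conj (Λ_mem _) a.lt ((Λact (r i hi) a.lt).trans (by rw [(hg i hi).2.1])))) <;>
      rw [← mul_assoc, ← mul_assoc, mul_inv_eq_iff_eq_mul] at f
    · exact ⟨c, hc, fun _ => f.trans (map_mul ..).symm⟩
    rw [mul_assoc (S.v c), S.comm, ← mul_assoc, Cs.v, ← map_mul] at f
    refine absurd (?_ : S.ψ 1 = S.ψ ((vv c * Λ1 (Mathieu.mk (g22 i))) ^ 2 * (vv c * Λ1 (Mathieu.mk (g22 i)))) * S.t) (S.ne_t _ _)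
    rw [map_mul S.ψ (_ ^ 2), sq, ← S.mul_t, mul_assoc _ _ S.t, ← f]
    simpa [pow_succ, mul_assoc] using congrArg (fun m => x⁻¹ * S.ψ (Λ1 m) * x) (((r i hi).pow_eq_one_iff 3).2 (hg i hi).2.2.2).symm
  choose c hc h1 using h1
  obtain ⟨u, hu, ε, e, h2⟩ := Γ1.cocycle (a := fun i => vv (c i) * Λ1 (Mathieu.mk (g22 i))) (b := fun i => Λ1 (Mathieu.mk (g22 i)))
    (g := g22) (fun i _ => ⟨mul_mem (V_le (vv_mem (hc i))) (Λ_mem _), by
      rw [Γ1.ρ_mul _ (V_le (vv_mem (hc i))) _ (Λ_mem _), Γ1.ρ_V (vv_mem (hc i)), one_mul]⟩)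
    (fun i hi => ⟨Λ_mem _, (ρ_Λ1 _).symm ▸ r i hi⟩) (rs := r22) (E := 0)
    (A := 0x61e0006300004680004fc00000000000000076600000000000000013e0000000000020007c800078a0000000001f0000000000000000000000000000000000000)
    (fun p hp => by
      obtain ⟨x', y⟩ := (by decide +kernel : ∀ p ∈ r22, (∀ i ∈ p.1, i < 2) ∧ pT g22 p.1 = id24) p hp
      have k := map_prod_one Λ1 ((R_pT r x').eq_one_iff.2 y)
      refine ⟨x', S.inj ?_, k⟩
      rw [map_list_prod, List.map_map, map_one, ← map_prod_one ((MulAut.conj x⁻¹).toMonoidHom.comp S.ψ) k]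
      exact congrArg _ (List.map_congr_left fun i hi => (h1 i (x' i hi)).symm.trans (by simp))) (by decide +kernel)
  obtain ⟨w, hw, p, q⟩ : ∃ w < 2 ^ 24, pc w % 2 = 0 ∧ ∀ i < 2, u ^^^ img (g22 i) u = w ^^^ img (g22 i) w := by
    rcases Nat.mod_two_eq_zero_or_one (pc u) with h | h
    · exact ⟨u, hu, h, fun _ _ => rfl⟩
    · refine ⟨u ^^^ 1, Nat.xor_lt_two_pow hu (by norm_num), by rw [pc_xor, show pc 1 = 1 by decide]; omega, fun i hi => ?_⟩
      rw [img_xor (r i hi), (hg i hi).2.2.1, Nat.xor_assoc, Nat.xor_comm 1, Nat.xor_xor_cancel_right]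
  refine ⟨lin w, lin_lt w, fun m hm => mem_centralizer_singleton_iff.1 (gen22 (N := (centralizer {x * S.v (lin w)}).comap (S.ψ.comp Λ1))
    (fun i hi => mem_centralizer_singleton_iff.2 ?_) hm)⟩
  have := h1 i hi
  rw [h2 i hi, e rfl, mul_zero, pow_zero, mul_one, q i hi, show Γ1.cm _ = vv _ from rfl, lin_xor, vv_xor, ← act_lin (r i hi) hw p,
    ← Λact (r i hi) (lin_lt w), mul_assoc, inv_mul_eq_iff_eq_mul] at this
  change S.ψ _ * _ = _ * S.ψ _
  rw [← mul_assoc, this]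
  simp [Cs.v, mul_assoc, ← map_mul, vv_sq]

variable (S)

theorem exists_th : ∃ θ, Th S.toCs θ := by
  obtain ⟨e, he, h⟩ := S.exists_X
  let X : Subgroup G := fsub {x | S.IX e x} (S.v_zero ▸ IX.v S e 0) fun a p b q => p.mul (h a b p q) q
  have : IsMulCommutative X := ⟨⟨fun a b => Subtype.ext (h _ _ a.2 b.2)⟩⟩
  let σ : M24 →* MulAut X := X.normalizerMonoidHom.comp ((S.ψ.comp Λ1).codRestrict _ fun m =>
    mem_normalizer_fintype fun x hx => IX.conj hx (Λ_mem m))
  have hσ : ∀ m x, (σ m x : G) = S.ψ (Λ1 m) * x * (S.ψ (Λ1 m))⁻¹ := fun _ _ => rfl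
  obtain ⟨x, a, b⟩ := exists_IX (S := S) he (u := 289) (by norm_num) (by norm_num)
  obtain ⟨c, hc, k⟩ := fix22 a
  have sq : ∀ x : X, ∃ u, S.Ov x u ∧ (x * x : G) = S.v u ^ e := fun ⟨_, u, a, _, p⟩ => ⟨u, a, p⟩
  suffices hE : Ext σ fun x u => S.Ov x u by
    obtain ⟨θ, h1, h2, h3⟩ := hE.ex (y := ⟨x * S.v c, b.mul (a.c c hc) (IX.v S e c)⟩) (a.mul0 (S.ov_v c))
      fun m hm => Subtype.ext (mul_inv_eq_iff_eq_mul.2 (k m hm))
    exact ⟨fun c => θ c, fun c p d q => congrArg Subtype.val (h1 c p d q), h2, fun m c r v p => congrArg Subtype.val (h3 m c r v p)⟩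
  refine ⟨by simpa [S.v_zero] using S.ov_v 0, Cs.Ov.mul, fun a r => a.conj (Λ_mem _) (act_lt _ _) (Λact r a.lt),
    fun {x m n c d} a r r' p q l => ?_, fun x => ?_, fun {x u} a n p y => ?_⟩
  · obtain ⟨w, hw, f | f⟩ := ov_zero a
    · rw [Subtype.ext_iff, hσ, f] at p q
      have k : ∀ {m c}, R m c → S.ψ (Λ1 m) * S.v w * (S.ψ (Λ1 m))⁻¹ = S.v w → act c w = w := fun r e =>
        S.v_inj (act_lt _ _) hw ((S.cj_v (Λact r hw)).symm.trans e)
      rcases bor_eq_true.1 (allBig_iff.1 l w hw) with l | l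
      · exact Subtype.ext (by rw [f, beq_iff.1 l]; exact S.v_zero)
      · exact ((bor_eq_true.1 l).elim (fun l => ne_of_not_beq l (k r p)) fun l => ne_of_not_beq l (k r' q)).elim
    · exact absurd f (x.2.choose_spec.2.1 w hw)
  · obtain ⟨u, -, p⟩ := sq x
    refine Subtype.ext ?_
    rw [show 4 = 2 * 2 from rfl, pow_mul, coe_pow, coe_pow, pow_two x.1, p, ← pow_mul, mul_comm, pow_mul, pow_two, S.v_sq, one_pow, coe_one]
  · obtain ⟨w, b, q⟩ := sq x
    obtain ⟨w', -, q'⟩ := sq y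
    obtain rfl := a.uniq b
    rcases (by omega : e = 0 ∨ e = 1) with l | l <;> rw [l] at q q'
    · exact Subtype.ext (q'.trans (pow_zero _))
    · exact absurd (S.v_eq a.lt ((pow_one _).symm.trans (q.symm.trans (congrArg Subtype.val p)))) n

end Ct

end Cfsg.Lib.SWJ
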