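import Cfsg.Agent.Lib.SW.JB

/-! # An involution with centraliser `2 × J₄`: the group `2¹²` and its normaliser -/

set_option autoImplicit false
set_option maxRecDepth 100000

namespace Cfsg.Lib.SWJ

open Cfsg.Lib.Calc Cfsg.Lib.F2 Cfsg.Lib.Mathieu Cfsg.Lib.J4T Subgroup Cfsg.Lib.Transfer
open Cfsg.Lib.J4T.Md (rtV)

/-- a copy of `2 × J₄` -/
structure Cs (G : Type*) [Group G] where
  ψ : J →* G
  t : G
  inj : Function.Injective ψ
  t2 : t * t = 1
  comm : ∀ a, t * ψ a = ψ a * t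
  ne : ∀ a, ψ a ≠ t

/-- the centraliser of the non-isolated involution `t` is `2 × J₄` -/
structure Ct (G : Type*) [Group G] extends Cs G where
  cen : ∀ g, g * t = t * g → ∃ a, g = ψ a ∨ g = ψ a * t
  ni : ∃ g, g * t * g⁻¹ ≠ t ∧ g * t * g⁻¹ * t = t * (g * t * g⁻¹)

variable {G : Type*} [Group G]

theorem cj_eq {g x y : G} (h : g * x * g⁻¹ = y) : x = g⁻¹ * y * g := by rw [← h]; group

theorem comm_of_sq {a b : G} (p : a * a = 1) (q : b * b = 1) (r : a * b * (a * b) = 1) : a * b = b * a := by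
  rw [eq_inv_of_mul_eq_one_left r, mul_inv_rev, inv_eq_of_mul_eq_one_right p, inv_eq_of_mul_eq_one_right q]

theorem ea_of {Y : Subgroup G} (h : ∀ x ∈ Y, x * x = 1) : IsElementaryAbelian 2 Y :=
  ⟨⟨⟨fun a b => Subtype.ext (comm_of_sq (h _ a.2) (h _ b.2) (h _ (mul_mem a.2 b.2)))⟩⟩, fun x hx => (sq x).trans (h x hx)⟩

namespace Cs

variable (S : Cs G)

/-- the elements of `V` -/
noncomputable def v (c : ℕ) : G := S.ψ (vv c)

theorem v_xor (c d : ℕ) : S.v (c ^^^ d) = S.v c * S.v d := by rw [v, vv_xor, map_mul]; rfl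
theorem v_zero : S.v 0 = 1 := by rw [v, vv_zero, map_one]
theorem v_sq (c : ℕ) : S.v c * S.v c = 1 := by rw [← v_xor, Nat.xor_self, v_zero]
theorem v_inv (c : ℕ) : (S.v c)⁻¹ = S.v c := inv_eq_of_mul_eq_one_right (S.v_sq c)
theorem v_comm (c d : ℕ) : S.v c * S.v d = S.v d * S.v c := by rw [← v_xor, ← v_xor, Nat.xor_comm]
theorem v_inj {c d : ℕ} (hc : c < 2048) (hd : d < 2048) (h : S.v c = S.v d) : c = d := vv_inj hc hd (S.inj h)
theorem v_eq {c : ℕ} (hc : c < 2048) (h : S.v c = 1) : c = 0 := S.v_inj hc (by norm_num) (h.trans S.v_zero.symm)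
theorem t_v (c : ℕ) : S.t * S.v c = S.v c * S.t := S.comm _
theorem t_inv : S.t⁻¹ = S.t := inv_eq_of_mul_eq_one_right S.t2
theorem tt (g : G) : S.t * (S.t * g) = g := by rw [← mul_assoc, S.t2, one_mul]
theorem cj_t (a : J) : S.ψ a * S.t * (S.ψ a)⁻¹ = S.t := by rw [← S.comm, mul_inv_cancel_right]
theorem mul_t (a b : J) : S.ψ a * S.t * (S.ψ b * S.t) = S.ψ (a * b) := by
  rw [mul_assoc, ← mul_assoc S.t, S.comm, mul_assoc, S.t2, mul_one, map_mul]
theorem ne_t (a b : J) : S.ψ a ≠ S.ψ b * S.t := fun e => S.ne (b⁻¹ * a) (by rw [map_mul, e, map_inv, inv_mul_cancel_left])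
theorem cj_v {g : J} {c d : ℕ} (h : g * vv c * g⁻¹ = vv d) : S.ψ g * S.v c * (S.ψ g)⁻¹ = S.v d := by
  rw [v, v, ← h, map_mul, map_mul, map_inv]
theorem cj_vt {g : J} {c d : ℕ} (h : g * vv c * g⁻¹ = vv d) : S.ψ g * (S.v c * S.t) * (S.ψ g)⁻¹ = S.v d * S.t := by
  rw [← conj_mul, S.cj_v h, S.cj_t]

theorem not_conj {D : Subgroup G} (h : ∀ x y, x * S.t = S.t * x → y * S.t = S.t * y → x * y * x⁻¹ * y⁻¹ ∈ D) (hD : S.t ∉ D)
    (a : J) : ¬IsConj S.t (S.ψ a) := fun e => by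
  obtain ⟨g, e⟩ := isConj_iff.1 e
  have k : ∀ {x}, x * a = a * x → g⁻¹ * S.ψ x * g * S.t = S.t * (g⁻¹ * S.ψ x * g) := fun {x} f => by
    rw [cj_eq e]; simpa [mul_assoc] using congrArg (fun z => g⁻¹ * S.ψ z * g) f
  refine hD (conj_mem_conj.1 (e ▸ der S.ψ (D := g ⋆ D) (S.inj (by rw [map_mul, ← e, conj_mul, S.t2]; simp)) fun x y p q => ?_))
  exact mem_conj.2 (by simpa [mul_assoc] using h _ _ (k p) (k q))

variable [Finite G]

/-- the group `2¹²` -/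
def B : Subgroup G := fsub {g | ∃ c < 2048, g = S.v c ∨ g = S.v c * S.t} ⟨0, by norm_num, .inl S.v_zero.symm⟩ (by
  rintro _ ⟨c, hc, rfl | rfl⟩ _ ⟨d, hd, rfl | rfl⟩ <;> refine ⟨_, xlt hc hd, ?_⟩ <;> rw [S.v_xor]
  exacts [.inl rfl, .inr (mul_assoc ..).symm, .inr (by rw [mul_assoc, S.t_v, mul_assoc]), .inl ((S.mul_t _ _).trans (map_mul ..))])

theorem mem_B {g : G} : g ∈ S.B ↔ ∃ c < 2048, g = S.v c ∨ g = S.v c * S.t := .rfl
theorem t_B : S.t ∈ S.B := ⟨0, by norm_num, .inr (by simp [S.v_zero])⟩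
theorem v_B {c : ℕ} (hc : c < 2048) : S.v c ∈ S.B := ⟨c, hc, .inl rfl⟩

theorem card_B : Nat.card S.B = 2 ^ 12 := by
  have := ncard_eq_sum (s := Finset.range 2048 ×ˢ Finset.range 2) (f := fun p => S.v p.1 * S.t ^ p.2) (by
    rintro ⟨c, i⟩ h ⟨d, j⟩ h' e
    simp only [Finset.coe_product, Finset.coe_range, Set.mem_prod, Set.mem_Iio] at h h' e
    obtain ⟨h, hi⟩ := h
    obtain ⟨h', hj⟩ := h'
    interval_cases i <;> interval_cases j <;> simp only [pow_zero, pow_one, mul_one, mul_left_inj] at e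
    exacts [by rw [S.v_inj h h' e], absurd e (S.ne_t _ _), absurd e.symm (S.ne_t _ _), by rw [S.v_inj h h' e]]) fun _ => True
  simp only [if_true, Finset.sum_const, Finset.card_product, Finset.card_range] at this
  refine Eq.trans (congrArg Set.ncard (Set.ext fun g => ⟨?_, ?_⟩)) this
  · rintro ⟨c, hc, rfl | rfl⟩
    exacts [⟨(c, 0), by simpa, trivial, by simp⟩, ⟨(c, 1), by simpa, trivial, by simp⟩]
  · rintro ⟨⟨c, i⟩, h, -, rfl⟩
    simp only [Finset.mem_product, Finset.mem_range] at h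
    obtain ⟨h, hi⟩ := h
    interval_cases i
    exacts [⟨c, h, .inl (by simp)⟩, ⟨c, h, .inr (by simp)⟩]

theorem B_comm {x y : G} (hx : x ∈ S.B) (hy : y ∈ S.B) : x * y = y * x := by
  obtain ⟨c, -, rfl | rfl⟩ := hx <;> obtain ⟨d, -, rfl | rfl⟩ := hy
  · exact S.v_comm _ _
  · rw [← mul_assoc, S.v_comm, mul_assoc, mul_assoc, S.t_v]
  · rw [← mul_assoc, S.v_comm, mul_assoc, mul_assoc, S.t_v]
  · rw [v, v, S.mul_t, S.mul_t, vv_comm]

theorem B_sq {x : G} (hx : x ∈ S.B) : x * x = 1 := by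
  obtain ⟨c, -, rfl | rfl⟩ := hx
  exacts [S.v_sq c, by rw [v, S.mul_t, vv_sq, map_one]]

theorem ea_half {Y : Subgroup G} (h1 : ∀ x ∈ Y, x * x = 1) (h : ∀ y ∈ Y, ∃ a, y = S.ψ a ∨ y = S.ψ a * S.t)
    (hc : 2 ^ 12 ≤ Nat.card Y) : ∃ a, S.ψ a ⋆ Y ≤ S.B := by
  let Z : Subgroup J := fsub {a | S.ψ a ∈ Y ∨ S.ψ a * S.t ∈ Y} (.inl (by simp)) (by
    rintro a (p | p) b (q | q)
    exacts [.inl (map_mul S.ψ a b ▸ mul_mem p q), .inr (by simpa [mul_assoc] using mul_mem p q),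
      .inr (by simpa [mul_assoc, S.comm] using mul_mem p q), .inl (S.mul_t a b ▸ mul_mem p q)])
  have h2 : ∀ a ∈ Z, a * a = 1 := by
    rintro a (p | p) <;> refine S.inj ?_
    exacts [by simpa using h1 _ p, by simpa [S.mul_t] using h1 _ p]
  have h3 : Nat.card Y ≤ Nat.card Z + Nat.card Z :=
    (Set.ncard_le_ncard (t := S.ψ '' Z ∪ (fun a => S.ψ a * S.t) '' Z) fun y hy => by
      obtain ⟨a, rfl | rfl⟩ := h y hy
      exacts [.inl ⟨a, .inl hy, rfl⟩, .inr ⟨a, .inr hy, rfl⟩]).trans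
      ((Set.ncard_union_le _ _).trans (add_le_add (Set.ncard_image_le (s := (Z : Set J))) (Set.ncard_image_le (s := (Z : Set J)))))
  obtain ⟨g, e⟩ := ea_conj (ea_of h2) (by omega)
  refine ⟨g, conj_le_iff.2 fun y hy => ?_⟩
  obtain ⟨a, rfl | rfl⟩ := h y hy
  · obtain ⟨c, hc, f⟩ := mem_V.1 (e.le (conj_mem_conj.2 (show a ∈ Z from .inl hy)))
    exact ⟨c, hc, .inl (by rw [v, ← f]; simp)⟩
  · obtain ⟨c, hc, f⟩ := mem_V.1 (e.le (conj_mem_conj.2 (show a ∈ Z from .inr hy)))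
    exact ⟨c, hc, .inr (by rw [v, ← f, ← conj_mul, S.cj_t]; simp)⟩

theorem M_nB {g : J} (hg : g ∈ MM) : S.ψ g ∈ normalizer (S.B : Set G) := mem_normalizer_fintype fun x ⟨c, hc, e⟩ => by
  obtain ⟨d, hd, f⟩ := mem_V.1 (conj_V hg (vv_mem hc))
  exact ⟨d, hd, e.imp (fun e => by rw [e, S.cj_v f]) fun e => by rw [e, S.cj_vt f]⟩

omit [Finite G] in
/-- `x` centralises `V` and moves `t` by `u` -/
structure Ov (x : G) (u : ℕ) : Prop where
  lt : u < 2048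
  c : ∀ c < 2048, x * S.v c = S.v c * x
  m : x * S.t = S.v u * S.t * x

omit [Finite G]

theorem ov_t : S.Ov S.t 0 := ⟨by norm_num, fun c _ => S.t_v c, by rw [S.v_zero, one_mul]⟩
theorem ov_v (c : ℕ) : S.Ov (S.v c) 0 := ⟨by norm_num, fun d _ => S.v_comm c d, by rw [S.v_zero, one_mul, S.t_v]⟩

namespace Ov

variable {S} {x y : G} {u w : ℕ}

theorem mul (a : S.Ov x u) (b : S.Ov y w) : S.Ov (x * y) (u ^^^ w) :=
  ⟨xlt a.lt b.lt, fun c hc => by rw [mul_assoc, b.c c hc, ← mul_assoc, a.c c hc, mul_assoc], by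
    rw [mul_assoc, b.m, ← mul_assoc, ← mul_assoc, a.c w b.lt, mul_assoc (S.v w), a.m, S.v_xor, S.v_comm u]; simp only [mul_assoc]⟩
theorem tm (a : S.Ov x u) : S.t * x = S.v u * (x * S.t) := by rw [a.m, ← mul_assoc, ← mul_assoc, S.v_sq, one_mul]
theorem cj (a : S.Ov x u) : x * S.t * x⁻¹ = S.v u * S.t := by rw [a.m, mul_inv_cancel_right]
theorem inv (a : S.Ov x u) : S.Ov x⁻¹ u :=
  ⟨a.lt, fun c hc => by rw [inv_mul_eq_iff_eq_mul, ← mul_assoc, a.c c hc, mul_inv_cancel_right], by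
    rw [inv_mul_eq_iff_eq_mul, ← mul_assoc, ← mul_assoc, a.c u a.lt, mul_assoc (S.v u), ← a.tm, mul_inv_cancel_right]⟩
theorem uniq (a : S.Ov x u) (b : S.Ov x w) : u = w := S.v_inj a.lt b.lt (by simpa using a.m.symm.trans b.m)
theorem mul0 (a : S.Ov x u) (b : S.Ov y 0) : S.Ov (x * y) u := by simpa using a.mul b
theorem div (a : S.Ov x u) (b : S.Ov y u) : S.Ov (x⁻¹ * y) 0 := by simpa using a.inv.mul b
theorem conj (a : S.Ov x u) {g : J} (hg : g ∈ MM) (hw : w < 2048) (e : g * vv u * g⁻¹ = vv w) :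
    S.Ov (S.ψ g * x * (S.ψ g)⁻¹) w := by
  refine ⟨hw, fun c hc => ?_, by rw [← S.cj_vt e, conj_mul, ← a.m, ← conj_mul, S.cj_t]⟩
  obtain ⟨d, hd, f⟩ := mem_V.1 (conj_V (inv_mem hg) (vv_mem hc))
  rw [← S.cj_v (g := g) (c := d) (d := c) (by rw [← f]; group), conj_mul, conj_mul, a.c d hd]
theorem sq_v (a : S.Ov x u) {c : ℕ} (hc : c < 2048) : x * S.v c * (x * S.v c) = x * x := by
  rw [mul_assoc, ← mul_assoc (S.v c), ← a.c c hc, mul_assoc, S.v_sq, mul_one]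
theorem sq_t (a : S.Ov x u) : x * S.t * (x * S.t) = x * x * S.v u := by
  rw [mul_assoc, ← mul_assoc S.t, a.tm, mul_assoc, mul_assoc, S.t2, mul_one, ← a.c u a.lt, mul_assoc]

end Ov

end Cs

namespace Ct

variable (S : Ct G)

theorem nc (a : J) : ¬IsConj S.t (S.ψ a) := S.not_conj (D := S.ψ.range) (fun x y p q => by
  obtain ⟨a, rfl | rfl⟩ := S.cen x p <;> obtain ⟨b, rfl | rfl⟩ := S.cen y q <;> refine ⟨a * b * a⁻¹ * b⁻¹, ?_⟩ <;>
    simp [mul_assoc, ← map_inv, S.t_inv, ← mul_assoc S.t, S.comm, S.t2]) (fun ⟨a, e⟩ => S.ne a e) a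

variable [Finite G]

theorem ctrl {y : G} (h : IsConj S.t y) (hy : y ∈ S.B) : y ∈ Grp.cl (normalizer (S.B : Set G)) S.t := by
  obtain ⟨g, rfl⟩ := isConj_iff.1 h
  obtain ⟨a, e⟩ := S.ea_half (Y := g⁻¹ ⋆ S.B) (fun x hx => by
    simpa [mul_assoc] using congrArg (fun z => g⁻¹ * z * g) (S.B_sq (mem_conj.1 hx)))
    (fun x hx => S.cen x (by simpa [mul_assoc] using congrArg (fun z => g⁻¹ * z * g) (S.B_comm (mem_conj.1 hx) hy)))
    (by rw [card_conj, S.card_B])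
  rw [conj_conj] at e
  exact ⟨_, inv_mem (mem_normalizer_of_conj_le e), by rw [← S.cj_t a⁻¹]; simp [mul_assoc, ← mul_assoc S.t, S.comm]⟩

theorem cl_t : (∀ c < 2048, IsConj S.t (S.v c * S.t)) ∧ (Grp.cl (normalizer (S.B : Set G)) S.t).ncard = 2048 := by
  classical
  have h1 : ∀ c < 2048, IsConj (S.v (rtV c) * S.t) (S.v c * S.t) := fun c hc =>
    let ⟨_, e⟩ := exists_rt hc; isConj_iff.2 ⟨_, S.cj_vt e⟩
  have h2 : Grp.cl (normalizer (S.B : Set G)) S.t =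
      {x | ∃ c ∈ Finset.range 2048, IsConj S.t (S.v (rtV c) * S.t) ∧ x = S.v c * S.t} := Set.ext fun y => ⟨fun ⟨k, hk, e⟩ => by
    obtain ⟨c, hc, f | f⟩ := e ▸ nrm_of hk S.t_B
    · exact absurd (isConj_iff.2 ⟨k, e.trans f⟩) (S.nc _)
    · exact ⟨c, Finset.mem_range.2 hc, (isConj_iff.2 ⟨k, e.trans f⟩).trans (h1 c hc).symm, f⟩,
    fun ⟨c, hc, e, f⟩ => f ▸ S.ctrl (e.trans (h1 c (Finset.mem_range.1 hc))) ⟨c, Finset.mem_range.1 hc, .inr rfl⟩⟩
  have h3 := ncard_eq_sum (s := Finset.range 2048) (f := fun c => S.v c * S.t) (fun c hc d hd e =>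
    S.v_inj (by simpa using hc) (by simpa using hd) (mul_right_cancel e)) fun c => IsConj S.t (S.v (rtV c) * S.t)
  rw [← h2, sum_rt fun r => if IsConj S.t (S.v r * S.t) then 1 else 0, if_pos (by rw [S.v_zero, one_mul])] at h3
  have h4 := not_dvd_cl (p := 277) (by norm_num) S.card_B le_rfl S.t_B (by decide)
  have h5 := not_dvd_cl (p := 443) (by norm_num) S.card_B le_rfl S.t_B (by decide)
  have h6 : IsConj S.t (S.v 17 * S.t) ∨ IsConj S.t (S.v 1024 * S.t) := by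
    obtain ⟨g, n, e⟩ := S.ni
    obtain ⟨a, f | f⟩ := S.cen _ e
    · exact absurd (isConj_iff.2 ⟨g, f⟩) (S.nc _)
    obtain ⟨k, c, hc, l⟩ := toV (a := a) (S.inj (by rw [← S.mul_t, ← f, conj_mul, S.t2]; simp))
    have := ((isConj_iff.2 ⟨g, f⟩).trans (isConj_iff.2 ⟨S.ψ k, show _ = S.v c * S.t by
      rw [← conj_mul, S.cj_t, Cs.v, ← l]; simp⟩)).trans (h1 c hc).symm
    rcases rt_cases hc (fun z => n (by rw [f, cj_eq l, z, vv_zero]; simp)) with z | z <;> rw [z] at this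
    exacts [.inl this, .inr this]
  split_ifs at h3 with a b b
  · refine ⟨fun c hc => .trans ?_ (h1 c hc), h3⟩
    rcases Md.rtV_cases c with e | e | e <;> rw [e]
    exacts [by rw [S.v_zero, one_mul], a, b]
  · exact absurd (h3 ▸ by norm_num) h4
  · exact absurd (h3 ▸ by norm_num) h5
  · exact (h6.elim a b).elim

theorem conj_vt {c : ℕ} (hc : c < 2048) : IsConj S.t (S.v c * S.t) := S.cl_t.1 c hc

theorem nB_v {n : G} (hn : n ∈ normalizer (S.B : Set G)) {c : ℕ} (hc : c < 2048) : ∃ d < 2048, n * S.v c * n⁻¹ = S.v d := by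
  obtain ⟨d, hd, e | e⟩ := nrm_of hn (S.v_B hc)
  exacts [⟨d, hd, e⟩, absurd ((S.conj_vt hd).trans (isConj_iff.2 ⟨n, e⟩).symm) (S.nc _)]

theorem duad {n : G} (hn : n ∈ normalizer (S.B : Set G)) {c d : ℕ} (hc : c < 2048) (hd : d < 2048) (h : rtV c = 17)
    (e : n * S.v c * n⁻¹ = S.v d) : rtV d = 17 := by
  classical
  refine (rt_cases hd fun z => rt_ne (by omega) (S.v_eq hc (by simpa [z, S.v_zero] using e))).resolve_right fun z => ?_
  have h1 : Grp.cl (normalizer (S.B : Set G)) (S.v c) = {x | ∃ c ∈ Finset.range 2048, rtV c ≠ 0 ∧ x = S.v c} :=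
    Set.ext fun y => ⟨fun ⟨k, hk, f⟩ => by
      obtain ⟨r, hr, l⟩ := S.nB_v hk hc
      refine ⟨r, Finset.mem_range.2 hr, fun z => ?_, f ▸ l⟩
      have := rt_cases hr fun z => rt_ne (by omega) (S.v_eq hc (by simpa [z, S.v_zero] using l))
      omega, fun ⟨r, hr, a, f⟩ => by
      rw [Finset.mem_range] at hr
      rcases rt_cases hr (rt_ne a) with l | l
      · obtain ⟨m, k⟩ := exists_act hc hr (h.trans l.symm)
        exact ⟨_, S.M_nB (Λ_mem m), f ▸ S.cj_v k⟩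
      · obtain ⟨m, k⟩ := exists_act hd hr (z.trans l.symm)
        exact ⟨_, mul_mem (S.M_nB (Λ_mem m)) hn, by rw [f, ← S.cj_v k, ← e]; group⟩⟩
  have h2 := ncard_eq_sum (s := Finset.range 2048) (f := S.v) (fun c hc d hd e =>
    S.v_inj (by simpa using hc) (by simpa using hd) e) fun c => rtV c ≠ 0
  rw [← h1, sum_rt fun r => if r ≠ 0 then 1 else 0] at h2
  have h3 := Grp.ncard_cl_mul (normalizer (S.B : Set G)) (S.v c)
  rw [← Grp.ncard_cl_mul (normalizer (S.B : Set G)) S.t, S.cl_t.2, h2] at h3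
  have := Fact.mk (by norm_num : Nat.Prime 89)
  obtain ⟨g, o⟩ := exists_prime_orderOf_dvd_card' 89 ((Nat.Coprime.dvd_mul_left (by norm_num : Nat.Coprime 89 2048)).1
    (h3 ▸ Dvd.dvd.mul_right (by norm_num) _))
  obtain ⟨a, f⟩ : ∃ a, g.1 * g.1 = S.ψ a := by
    obtain ⟨a, f | f⟩ := S.cen _ (mem_centralizer_singleton_iff.1 g.2.2)
    exacts [⟨a * a, by rw [f, map_mul]⟩, ⟨_, by rw [f, S.mul_t]⟩]
  have h4 := orderOf_dvd_natCard a
  rw [← orderOf_injective _ S.inj, ← f, ← sq, Nat.Coprime.orderOf_pow (by rw [orderOf_coe, o]; norm_num), orderOf_coe, o, cardJ] at h4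
  omega

theorem exists_ov {u : ℕ} (hu : u < 2048) : ∃ x, S.Ov x u := by
  obtain ⟨n, hn, e⟩ := S.ctrl (S.conj_vt hu) ⟨u, hu, .inr rfl⟩
  choose! f h1 h2 using fun c hc => S.nB_v hn (c := c) hc
  obtain ⟨m, c, r, k⟩ := exists_m (f := f) (fun c hc d hd => S.v_inj (h1 _ (xlt hc hd)) (xlt (h1 c hc) (h1 d hd)) (by
    rw [← h2 _ (xlt hc hd), S.v_xor, S.v_xor, ← h2 c hc, ← h2 d hd, conj_mul])) h1 fun c hc z => S.duad hn hc (h1 c hc) z (h2 c hc)
  refine ⟨n * (S.ψ (Λ1 m))⁻¹, hu, fun d hd => ?_, by rw [← e, ← map_inv, mul_assoc, ← S.comm]; group⟩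
  obtain ⟨w, hw, l⟩ := mem_V.1 (conj_V (inv_mem (Λ_mem m)) (vv_mem hd))
  have := S.cj_v (Λact r hw)
  rw [← k w hw, ← h2 w hw] at this
  have a := S.cj_v (g := Λ1 m) (c := w) (d := d) (by rw [← l]; group)
  calc _ = n * S.v w * n⁻¹ * (n * (S.ψ (Λ1 m))⁻¹) := by rw [← a]; group
    _ = _ := by rw [← this, a]

variable {S} {x y : G} {u w : ℕ}

theorem ov_zero (a : S.Ov x 0) : ∃ c < 2048, x = S.v c ∨ x = S.v c * S.t := by
  obtain ⟨g, e⟩ := S.cen x (by simpa [S.v_zero] using a.m)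
  obtain ⟨c, hc, rfl⟩ := mem_V.1 (cenV (g := g) fun c hc => S.inj (by
    have := a.c c hc
    rcases e with rfl | rfl
    · simpa [Cs.v] using this
    · rw [mul_assoc, S.t_v, ← mul_assoc, ← mul_assoc, mul_left_inj] at this
      simpa [Cs.v] using this))
  exact ⟨c, hc, e⟩

theorem ov_sq (a : S.Ov x u) (h : u ≠ 0) : x * x = 1 ∨ x * x = S.v u := by
  obtain ⟨c, hc, e | e⟩ := ov_zero (by simpa using a.mul a)
  · rw [e]
    refine (FQM (a := vv c) a.lt h fun g hg f => ?_).imp (fun f : vv c = 1 => by rw [Cs.v, f, map_one]) fun f => congrArg S.ψ f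
    have k : S.ψ (g * vv c * g⁻¹ * (vv c)⁻¹) = S.ψ g * x * (S.ψ g)⁻¹ * (S.ψ g * x * (S.ψ g)⁻¹) * S.v c := by
      rw [conj_mul, e, vv_inv]; simp [Cs.v]
    obtain ⟨d, hd, l | l⟩ := ov_zero (a.div (a.conj hg a.lt (mul_inv_eq_iff_eq_mul.2 f))) <;>
      rw [inv_mul_eq_iff_eq_mul.1 l] at k
    · exact .inl (S.inj (by rw [k, a.sq_v hd, e, S.v_sq, map_one]))
    · refine .inr (S.inj ?_)
      rw [k, ← mul_assoc x, (a.mul0 (S.ov_v d)).sq_t, a.sq_v hd, e, S.v_comm c, mul_assoc, S.v_sq, mul_one, Cs.v]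
  · have : x * (S.v c * S.t) = S.v c * S.t * x := by rw [← e, mul_assoc]
    rw [← mul_assoc, a.c c hc, mul_assoc, a.m, mul_assoc, mul_assoc, mul_right_inj, mul_eq_right] at this
    exact absurd (S.v_eq a.lt this) h

theorem exists_inv (hu : u < 2048) (h : u ≠ 0) : ∃ x, S.Ov x u ∧ x * x = 1 := by
  obtain ⟨x, a⟩ := S.exists_ov hu
  exact (ov_sq a h).elim (fun e => ⟨x, a, e⟩) fun e => ⟨_, a.mul0 S.ov_t, by rw [a.sq_t, e, S.v_sq]⟩

theorem same (a : S.Ov x u) (b : S.Ov y u) (h : u ≠ 0) (e : x * x = y * y) : ∃ c < 2048, y = x * S.v c := by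
  obtain ⟨d, hd, l | l⟩ := ov_zero (a.div b) <;> rw [inv_mul_eq_iff_eq_mul] at l
  · exact ⟨d, hd, l⟩
  rw [l, ← mul_assoc x, (a.mul0 (S.ov_v d)).sq_t, a.sq_v hd, left_eq_mul] at e
  exact absurd (S.v_eq a.lt e) h

theorem dich (a : S.Ov x u) (b : S.Ov y w) (h : u ≠ 0) (p : x * x = 1) (q : y * y = 1) :
    x * y = y * x ∨ x * y = S.v (u ^^^ w) * (y * x) := by
  by_cases e : u = w
  · subst e
    obtain ⟨c, hc, rfl⟩ := same a b h (p.trans q.symm)
    exact .inl (by rw [mul_assoc, a.c c hc])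
  refine (ov_sq (a.mul b) (mt Nat.xor_eq_zero_iff.1 e)).imp (comm_of_sq p q) fun f => ?_
  rw [← f, mul_assoc, mul_assoc x y (y * x), ← mul_assoc y, q, one_mul, p, mul_one]

theorem comm_step {s : G} {r : ℕ} (a : S.Ov x u) (b : S.Ov y w) (c : S.Ov s r) (h : u ≠ 0) (h' : w ≠ 0) (n : u ≠ r)
    (p : x * x = 1) (q : y * y = 1) (o : s * s = 1) (e : x * s = s * x) : y * s = s * y := by
  by_cases k : u = w
  · subst k
    obtain ⟨d, hd, rfl⟩ := same a b h (p.trans q.symm)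
    rw [mul_assoc, ← c.c d hd, ← mul_assoc, e, mul_assoc]
  refine (dich b c h' q o).elim id fun f => ?_
  have k := mt Nat.xor_eq_zero_iff.1 k
  have m := a.mul b
  have z : ∀ {i j}, i < 2048 → j < 2048 → ∀ {g}, S.v i * g = S.v j * g → i = j := fun hi hj _ e => S.v_inj hi hj (mul_right_cancel e)
  have f1 : x * y * s = S.v (w ^^^ r) * (s * (x * y)) := by
    rw [mul_assoc, f, ← mul_assoc, a.c _ (xlt b.lt c.lt), mul_assoc, ← mul_assoc x, e, mul_assoc]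
  rcases ov_sq m k with l | l
  · rcases dich m c k l o with g | g <;> rw [f1] at g
    · rw [f, mul_eq_right.1 g, one_mul]
    · exact absurd (by simpa [Nat.xor_assoc] using congrArg (· ^^^ (w ^^^ r)) (z (xlt b.lt c.lt) (xlt m.lt c.lt) g)) h.symm
  · have f2 : x * y * S.t * s = S.v w * (s * (x * y * S.t)) := by
      rw [mul_assoc, c.tm, ← mul_assoc, m.c r c.lt, mul_assoc, ← mul_assoc (x * y), f1, ← mul_assoc, ← mul_assoc, ← S.v_xor,
        Nat.xor_comm w, Nat.xor_xor_cancel_left]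
      simp only [mul_assoc]
    rcases dich (m.mul0 S.ov_t) c k (by rw [m.sq_t, l, S.v_sq]) o with g | g <;> rw [f2] at g
    · exact absurd (S.v_eq b.lt (mul_eq_right.1 g)) h'
    · have := z b.lt (xlt m.lt c.lt) g
      rw [Nat.xor_right_comm, ← Nat.zero_xor w, ← Nat.xor_assoc, Nat.xor_zero, Nat.xor_left_inj, eq_comm, Nat.xor_eq_zero_iff] at this
      exact absurd this n

variable (S)

/-- the elements of the subgroup of index two of `C(V) ∩ N(B)` -/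
def IX (e : ℕ) (x : G) : Prop := ∃ u, S.Ov x u ∧ (∀ c < 2048, x ≠ S.v c * S.t) ∧ x * x = S.v u ^ e

theorem exists_X : ∃ e < 2, ∀ x y, S.IX e x → S.IX e y → x * y = y * x := by
  have h0 : ∀ {e x y}, S.IX e x → S.Ov y 0 → (∀ c < 2048, y ≠ S.v c * S.t) → x * y = y * x := fun ⟨u, a, _⟩ b n => by
    obtain ⟨c, hc, rfl | e⟩ := ov_zero b
    exacts [a.c c hc, absurd e (n c hc)]
  by_cases h : ∃ x y u w, S.Ov x u ∧ S.Ov y w ∧ u ≠ 0 ∧ w ≠ 0 ∧ u ≠ w ∧ x * x = 1 ∧ y * y = 1 ∧ x * y = y * x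
  · obtain ⟨x, y, u, w, a, b, h1, h2, h3, p, q, e⟩ := h
    refine ⟨0, by norm_num, fun x' y' ⟨u', a', n, p'⟩ ⟨w', b', n', q'⟩ => ?_⟩
    by_cases k : u' = 0
    · exact (h0 ⟨w', b', n', q'⟩ (k ▸ a') n).symm
    by_cases k' : w' = 0
    · exact h0 ⟨u', a', n, p'⟩ (k' ▸ b') n'
    rw [pow_zero] at p' q'
    have e1 := comm_step a a' b h1 k h3 p p' q e
    by_cases l : w = u'
    · exact (comm_step a b' a' h1 k' (l ▸ h3) p q' p' (comm_step b a' a h2 k h3.symm q p' p e.symm).symm).symm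
    · exact (comm_step b b' a' h2 k' l q q' p' e1.symm).symm
  · refine ⟨1, by norm_num, fun x y ⟨u, a, n, p⟩ ⟨w, b, n', q⟩ => ?_⟩
    by_cases k : u = 0
    · exact (h0 ⟨w, b, n', q⟩ (k ▸ a) n).symm
    by_cases k' : w = 0
    · exact h0 ⟨u, a, n, p⟩ (k' ▸ b) n'
    by_cases l : u = w
    · subst l
      obtain ⟨c, hc, rfl⟩ := same a b k (p.trans q.symm)
      rw [mul_assoc, a.c c hc]
    rw [pow_one] at p q
    have p' : x * S.t * (x * S.t) = 1 := by rw [a.sq_t, p, S.v_sq]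
    have q' : y * S.t * (y * S.t) = 1 := by rw [b.sq_t, q, S.v_sq]
    have := (dich (a.mul0 S.ov_t) (b.mul0 S.ov_t) k p' q').resolve_left fun e =>
      h ⟨_, _, u, w, a.mul0 S.ov_t, b.mul0 S.ov_t, k, k', l, p', q', e⟩
    rw [mul_assoc, ← mul_assoc S.t, b.tm, mul_assoc y, ← mul_assoc S.t, a.tm] at this
    simp only [mul_assoc, S.t2, mul_one] at this
    rw [← mul_assoc, a.c w b.lt, ← mul_assoc y, b.c u a.lt, S.v_xor, S.v_comm u, mul_assoc, mul_assoc, mul_assoc, mul_right_inj,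
      ← mul_assoc, S.v_sq, one_mul] at this
    exact this

end Ct

end Cfsg.Lib.SWJ
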